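import Cfsg.Agent.Base

/-!
# Rank three permutation groups: the orbital graph, its parameters, transport

`Adj G a b` is the orbital graph of the pair `(a, b)`; `R3 G a b c k l` says that `G` is transitive
of rank three with subdegrees `1, k, l`.
-/

set_option autoImplicit false

namespace CL.Rk3
open MulAction
open scoped Pointwise

section general
variable {G Ω : Type*} [Group G] [MulAction G Ω]

/-- the orbital graph of the pair `(a, b)` -/
def Adj (G : Type*) {Ω : Type*} [Group G] [MulAction G Ω] (a b x y : Ω) : Prop :=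
  ∃ g : G, g • a = x ∧ g • b = y

theorem Adj.smul {a b x y : Ω} (h : Adj G a b x y) (g : G) : Adj G a b (g • x) (g • y) := by
  obtain ⟨u, rfl, rfl⟩ := h
  exact ⟨g * u, mul_smul _ _ _, mul_smul _ _ _⟩

theorem adj_smul_iff {a b x y : Ω} (g : G) : Adj G a b (g • x) (g • y) ↔ Adj G a b x y :=
  ⟨fun h => by simpa using h.smul g⁻¹, fun h => h.smul g⟩

theorem mem_orbit_stab_iff {a b y : Ω} :
    y ∈ orbit (stabilizer G a) b ↔ ∃ g : G, g • a = a ∧ g • b = y :=
  ⟨fun ⟨h, e⟩ => ⟨h, h.2, e⟩, fun ⟨g, e1, e2⟩ => ⟨⟨g, e1⟩, e2⟩⟩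

theorem adj_base_iff {a b y : Ω} : Adj G a b a y ↔ y ∈ orbit (stabilizer G a) b :=
  mem_orbit_stab_iff.symm

theorem adj_congr {a b b' : Ω} (h : b' ∈ orbit (stabilizer G a) b) {x y : Ω} :
    Adj G a b' x y ↔ Adj G a b x y := by
  obtain ⟨u, hu, rfl⟩ := mem_orbit_stab_iff.1 h
  constructor
  · rintro ⟨g, rfl, rfl⟩
    exact ⟨g * u, by rw [mul_smul, hu], mul_smul _ _ _⟩
  · rintro ⟨g, rfl, rfl⟩
    refine ⟨g * u⁻¹, ?_, by rw [mul_smul, inv_smul_smul]⟩
    rw [mul_smul, inv_smul_eq_iff.2 hu.symm]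

theorem smul_mem_orbit_stab {a b x : Ω} {g : G} (hg : g • a = a)
    (hx : x ∈ orbit (stabilizer G a) b) : g • x ∈ orbit (stabilizer G a) b := by
  obtain ⟨u, hu, rfl⟩ := mem_orbit_stab_iff.1 hx
  exact mem_orbit_stab_iff.2 ⟨g * u, by rw [mul_smul, hu, hg], mul_smul _ _ _⟩

theorem smul_mem_orbit_stab_iff {a b x : Ω} {g : G} (hg : g • a = a) :
    g • x ∈ orbit (stabilizer G a) b ↔ x ∈ orbit (stabilizer G a) b :=
  ⟨fun h => by simpa using smul_mem_orbit_stab (g := g⁻¹) (inv_smul_eq_iff.2 hg.symm) h,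
    smul_mem_orbit_stab hg⟩

theorem exists_smul_eq_of_mem_orbit_stab {a b x y : Ω} (hx : x ∈ orbit (stabilizer G a) b)
    (hy : y ∈ orbit (stabilizer G a) b) : ∃ g : G, g • a = a ∧ g • x = y := by
  obtain ⟨u, hu, rfl⟩ := mem_orbit_stab_iff.1 hx
  obtain ⟨v, hv, rfl⟩ := mem_orbit_stab_iff.1 hy
  refine ⟨v * u⁻¹, ?_, by rw [mul_smul, inv_smul_smul]⟩
  rw [mul_smul, inv_smul_eq_iff.2 hu.symm, hv]

/-- a set described by a `g`-equivariant pair of predicates keeps its size -/
theorem ncard_eq_of_smul (g : G) {S T : Set Ω} (h : ∀ x, g • x ∈ T ↔ x ∈ S) :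
    T.ncard = S.ncard := by
  have : T = (fun x => g • x) '' S := by
    ext y
    constructor
    · intro hy
      exact ⟨g⁻¹ • y, (h _).1 (by simpa using hy), by simp⟩
    · rintro ⟨x, hx, rfl⟩; exact (h x).2 hx
  rw [this, Set.ncard_image_of_injective _ (MulAction.injective g)]

theorem ncard_mul_eq {α β : Type*} [Finite α] [Finite β] (s : Set α) (t : Set β)
    (r : α → β → Prop) {m n : ℕ} (hm : ∀ x ∈ s, {y | y ∈ t ∧ r x y}.ncard = m)
    (hn : ∀ y ∈ t, {x | x ∈ s ∧ r x y}.ncard = n) : s.ncard * m = t.ncard * n := by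
  classical
  have := Finset.card_mul_eq_card_mul (s := s.toFinite.toFinset) (t := t.toFinite.toFinset) r
    (m := m) (n := n) ?_ ?_
  · rwa [← Set.ncard_eq_toFinset_card, ← Set.ncard_eq_toFinset_card] at this
  · intro x hx
    rw [← hm x (by simpa using hx), ← Set.ncard_coe_finset]
    congr 1; ext y; simp [Finset.bipartiteAbove]
  · intro y hy
    rw [← hn y (by simpa using hy), ← Set.ncard_coe_finset]
    congr 1; ext x; simp [Finset.bipartiteBelow]

theorem ncard_orbit_mul (K : Subgroup G) (x : Ω) :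
    (orbit K x).ncard * Nat.card (stabilizer K x) = Nat.card K := by
  rw [← index_stabilizer, mul_comm, Subgroup.card_mul_index]

theorem card_stab_stab (a x : Ω) :
    Nat.card (stabilizer (stabilizer G a) x) = Nat.card ↥(stabilizer G a ⊓ stabilizer G x) := by
  refine Nat.card_congr ⟨fun h => ⟨h.1.1, h.1.2, h.2⟩, fun h => ⟨⟨h.1, h.2.1⟩, h.2.2⟩, ?_, ?_⟩
  · intro h; rfl
  · intro h; rfl

end general

/-- `G` is transitive of rank three on `Ω`, with suborbits `{a}`, the orbit of `b` (length `k`) and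
the orbit of `c` (length `l`). -/
structure R3 (G : Type*) {Ω : Type*} [Group G] [MulAction G Ω] (a b c : Ω) (k l : ℕ) : Prop where
  trans : IsPretransitive G Ω
  card : Nat.card Ω = 1 + k + l
  hb : (orbit (stabilizer G a) b).ncard = k
  hc : (orbit (stabilizer G a) c).ncard = l
  ne : k ≠ l
  hk : 1 < k
  hl : 1 < l

namespace R3
variable {G Ω : Type*} [Group G] [MulAction G Ω] {a b c : Ω} {k l : ℕ}

theorem not_mem_aux {x : Ω} {m : ℕ} (hx : (orbit (stabilizer G a) x).ncard = m) (hm : 1 < m) :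
    a ∉ orbit (stabilizer G a) x := by
  intro h
  have : orbit (stabilizer G a) x = {a} := by
    ext y
    constructor
    · intro hy
      obtain ⟨g, hg, rfl⟩ := exists_smul_eq_of_mem_orbit_stab h hy
      exact hg
    · rintro rfl; exact h
  rw [this, Set.ncard_singleton] at hx
  omega

theorem a_not_mem_b (h : R3 G a b c k l) : a ∉ orbit (stabilizer G a) b := not_mem_aux h.hb h.hk

theorem a_not_mem_c (h : R3 G a b c k l) : a ∉ orbit (stabilizer G a) c := not_mem_aux h.hc h.hl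

theorem not_mem_both (h : R3 G a b c k l) {x : Ω} (hb : x ∈ orbit (stabilizer G a) b)
    (hc : x ∈ orbit (stabilizer G a) c) : False := by
  have e1 := orbit_eq_iff.2 hb
  have e2 := orbit_eq_iff.2 hc
  exact h.ne (by rw [← h.hb, ← h.hc, ← e1, ← e2])

theorem finite (h : R3 G a b c k l) : Finite Ω :=
  Nat.finite_of_card_ne_zero (by rw [h.card]; omega)

theorem cases (h : R3 G a b c k l) (x : Ω) :
    x = a ∨ x ∈ orbit (stabilizer G a) b ∨ x ∈ orbit (stabilizer G a) c := by
  have := h.finite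
  have hd : Disjoint (orbit (stabilizer G a) b) (orbit (stabilizer G a) c) :=
    Set.disjoint_left.2 fun y h1 h2 => h.not_mem_both h1 h2
  have hn : a ∉ orbit (stabilizer G a) b ∪ orbit (stabilizer G a) c := by
    rintro (h1 | h1)
    · exact h.a_not_mem_b h1
    · exact h.a_not_mem_c h1
  have e : (insert a (orbit (stabilizer G a) b ∪ orbit (stabilizer G a) c)) = Set.univ := by
    apply Set.eq_of_subset_of_ncard_le (Set.subset_univ _)
    rw [Set.ncard_insert_of_notMem hn, Set.ncard_union_eq hd, h.hb, h.hc, Set.ncard_univ, h.card]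
    omega
  have hx : x ∈ insert a (orbit (stabilizer G a) b ∪ orbit (stabilizer G a) c) := by
    rw [e]; trivial
  simpa using hx

theorem change (h : R3 G a b c k l) {b' c' : Ω} (hb : b' ∈ orbit (stabilizer G a) b)
    (hc : c' ∈ orbit (stabilizer G a) c) : R3 G a b' c' k l :=
  ⟨h.trans, h.card, by rw [orbit_eq_iff.2 hb, h.hb], by rw [orbit_eq_iff.2 hc, h.hc], h.ne, h.hk,
    h.hl⟩

theorem irrefl (h : R3 G a b c k l) (x : Ω) : ¬ Adj G a b x x := by
  rintro ⟨g, h1, h2⟩
  have : a = b := MulAction.injective g (h1.trans h2.symm)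
  exact h.a_not_mem_b (this ▸ mem_orbit_self _)

theorem exists_swap [Finite G] (h : R3 G a b c k l) : ∃ t : G, t • a = b ∧ t • b = a := by
  have := h.trans
  obtain ⟨g, hg⟩ := exists_smul_eq G a b
  have key : (orbit (stabilizer G a) (g⁻¹ • a)).ncard = k := by
    have e1 := ncard_orbit_mul (stabilizer G a) (g⁻¹ • a)
    have e2 := ncard_orbit_mul (stabilizer G a) b
    have e3 : Nat.card (stabilizer (stabilizer G a) (g⁻¹ • a)) =
        Nat.card (stabilizer (stabilizer G a) b) := by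
      rw [card_stab_stab, card_stab_stab]
      refine Nat.card_congr ⟨fun u => ⟨g * u * g⁻¹, ?_, ?_⟩, fun u => ⟨g⁻¹ * u * g, ?_, ?_⟩, ?_, ?_⟩
      · have : u.1 • g⁻¹ • a = g⁻¹ • a := u.2.2
        show (g * u * g⁻¹) • a = a
        rw [mul_smul, mul_smul, this, smul_inv_smul]
      · have : u.1 • a = a := u.2.1
        show (g * u * g⁻¹) • b = b
        rw [← hg, mul_smul, inv_smul_smul, mul_smul, this]
      · have : u.1 • b = b := u.2.2
        show (g⁻¹ * u * g) • a = a
        rw [mul_smul, mul_smul, hg, this, ← hg, inv_smul_smul]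
      · have : u.1 • a = a := u.2.1
        show (g⁻¹ * u * g) • g⁻¹ • a = g⁻¹ • a
        rw [mul_smul, smul_inv_smul, mul_smul, this]
      · intro u; ext; simp [mul_assoc]
      · intro u; ext; simp [mul_assoc]
    rw [e3, ← e2, h.hb] at e1
    exact Nat.eq_of_mul_eq_mul_right Nat.card_pos e1
  rcases h.cases (g⁻¹ • a) with e | e | e
  · exfalso
    have : a = b := by rw [← hg, ← e, smul_inv_smul, e]
    exact h.a_not_mem_b (this ▸ mem_orbit_self _)
  · obtain ⟨u, hu, hu'⟩ := mem_orbit_stab_iff.1 e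
    exact ⟨g * u, by rw [mul_smul, hu, hg], by rw [mul_smul, hu', smul_inv_smul]⟩
  · exact absurd (by rw [← key, orbit_eq_iff.2 e, h.hc]) h.ne

theorem symm [Finite G] (h : R3 G a b c k l) {x y : Ω} (hxy : Adj G a b x y) : Adj G a b y x := by
  obtain ⟨t, h1, h2⟩ := h.exists_swap
  obtain ⟨g, rfl, rfl⟩ := hxy
  exact ⟨g * t, by rw [mul_smul, h1], by rw [mul_smul, h2]⟩

theorem ncard_nb (h : R3 G a b c k l) (x : Ω) : {y | Adj G a b x y}.ncard = k := by
  have := h.trans
  obtain ⟨g, rfl⟩ := exists_smul_eq G a x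
  rw [← h.hb]
  exact ncard_eq_of_smul g fun y => by
    simp only [Set.mem_ofPred_eq, adj_smul_iff, adj_base_iff]

/-- number of neighbours of `x` in the suborbit of `y` -/
noncomputable def cnt (G : Type*) {Ω : Type*} [Group G] [MulAction G Ω] (a b x y : Ω) : ℕ :=
  {z | z ∈ orbit (stabilizer G a) y ∧ Adj G a b x z}.ncard

theorem cnt_eq {x x' y : Ω} (hx : x' ∈ orbit (stabilizer G a) x) : cnt G a b x' y = cnt G a b x y := by
  obtain ⟨g, hg, rfl⟩ := mem_orbit_stab_iff.1 hx
  exact ncard_eq_of_smul g fun z => by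
    simp only [Set.mem_ofPred_eq, adj_smul_iff, smul_mem_orbit_stab_iff hg]

theorem ncard_split (h : R3 G a b c k l) (S : Set Ω) (hS : a ∉ S) :
    S.ncard = {z | z ∈ orbit (stabilizer G a) b ∧ z ∈ S}.ncard +
      {z | z ∈ orbit (stabilizer G a) c ∧ z ∈ S}.ncard := by
  have := h.finite
  rw [← Set.ncard_union_eq (Set.disjoint_left.2 fun y h1 h2 => h.not_mem_both h1.1 h2.1)]
  congr 1
  ext z
  constructor
  · intro hz
    rcases h.cases z with rfl | h1 | h1
    · exact absurd hz hS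
    · exact Or.inl ⟨h1, hz⟩
    · exact Or.inr ⟨h1, hz⟩
  · rintro (h1 | h1) <;> exact h1.2

theorem cnt_b [Finite G] (h : R3 G a b c k l) : 1 + cnt G a b b b + cnt G a b b c = k := by
  have := h.finite
  have ha : a ∈ {y | Adj G a b b y} := h.symm ⟨1, one_smul _ _, one_smul _ _⟩
  have e := h.ncard_split ({y | Adj G a b b y} \ {a}) (by simp)
  have e1 := Set.ncard_sdiff_singleton_add_one ha
  rw [h.ncard_nb] at e1
  have e2 : {z | z ∈ orbit (stabilizer G a) b ∧ z ∈ {y | Adj G a b b y} \ {a}} =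
      {z | z ∈ orbit (stabilizer G a) b ∧ Adj G a b b z} := by
    ext z
    refine ⟨fun hz => ⟨hz.1, hz.2.1⟩, fun hz => ⟨hz.1, hz.2, ?_⟩⟩
    rintro rfl; exact h.a_not_mem_b hz.1
  have e3 : {z | z ∈ orbit (stabilizer G a) c ∧ z ∈ {y | Adj G a b b y} \ {a}} =
      {z | z ∈ orbit (stabilizer G a) c ∧ Adj G a b b z} := by
    ext z
    refine ⟨fun hz => ⟨hz.1, hz.2.1⟩, fun hz => ⟨hz.1, hz.2, ?_⟩⟩
    rintro rfl; exact h.a_not_mem_c hz.1
  rw [e2, e3] at e
  unfold cnt; omega

theorem not_adj_c [Finite G] (h : R3 G a b c k l) {y : Ω} (hy : y ∈ orbit (stabilizer G a) c) :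
    ¬ Adj G a b y a := fun h1 => h.not_mem_both (adj_base_iff.1 (h.symm h1)) hy

theorem cnt_c [Finite G] (h : R3 G a b c k l) : cnt G a b c b + cnt G a b c c = k := by
  have e := h.ncard_split {y | Adj G a b c y} (h.not_adj_c (mem_orbit_self _))
  rw [h.ncard_nb] at e
  exact e.symm

theorem cnt_mul [Finite G] (h : R3 G a b c k l) : k * cnt G a b b c = l * cnt G a b c b := by
  have := h.finite
  rw [← h.hb, ← h.hc]
  refine ncard_mul_eq _ _ (Adj G a b) (fun x hx => cnt_eq hx) fun y hy => ?_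
  rw [← cnt_eq hy]
  unfold cnt
  congr 1; ext z
  exact and_congr_right fun _ => ⟨h.symm, h.symm⟩

theorem card_eq [Finite G] (h : R3 G a b c k l) :
    Nat.card G = (1 + k + l) * Nat.card (stabilizer G a) := by
  have := h.trans
  rw [← h.card, ← index_stabilizer_of_transitive G a, mul_comm, Subgroup.card_mul_index]

/-- if no edge leaves `{a} ∪ Δ`, this set is a block -/
theorem cnt_b_c_ne_zero [Finite G] (h : R3 G a b c k l) (hn : ¬ (k + 1) ∣ 1 + k + l) :
    cnt G a b b c ≠ 0 := by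
  have := h.finite
  intro h0
  have hno : ∀ x ∈ orbit (stabilizer G a) b, ∀ y ∈ orbit (stabilizer G a) c, ¬ Adj G a b x y := by
    intro x hx y hy hxy
    have h1 : cnt G a b x c = 0 := (cnt_eq hx).trans h0
    rw [cnt, Set.ncard_eq_zero] at h1
    exact (h1 ▸ (⟨hy, hxy⟩ : y ∈ {z | z ∈ orbit (stabilizer G a) c ∧ Adj G a b x z}) : y ∈ (∅ : Set Ω))
  set B : Set Ω := insert a (orbit (stabilizer G a) b) with hB
  have hBc : B.ncard = k + 1 := by rw [hB, Set.ncard_insert_of_notMem h.a_not_mem_b, h.hb]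
  have hcl : ∀ x ∈ B, ∀ y, Adj G a b x y → y ∈ B := by
    rintro x (rfl | hx) y hxy
    · exact Or.inr (adj_base_iff.1 hxy)
    · rcases h.cases y with rfl | h1 | h1
      · exact Or.inl rfl
      · exact Or.inr h1
      · exact absurd hxy (hno x hx y h1)
  let M : Subgroup G :=
    { carrier := {g | g • a ∈ B}
      one_mem' := by simp [hB]
      mul_mem' := by
        intro g u hg hu
        simp only [Set.mem_ofPred_eq, mul_smul] at hg hu ⊢
        rcases hu with hu | hu
        · rw [hu]; exact hg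
        · exact hcl _ hg _ ((adj_base_iff.2 hu).smul g)
      inv_mem' := by
        intro g hg
        simp only [Set.mem_ofPred_eq] at hg ⊢
        rcases hg with hg | hg
        · exact Or.inl (inv_smul_eq_iff.2 hg.symm)
        · have := (h.symm (adj_base_iff.2 hg)).smul g⁻¹
          rw [inv_smul_smul] at this
          exact Or.inr (adj_base_iff.1 this) }
  have hO : orbit M a = B := by
    ext x
    constructor
    · rintro ⟨g, rfl⟩; exact g.2
    · intro hx
      have := h.trans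
      obtain ⟨g, rfl⟩ := exists_smul_eq G a x
      exact ⟨⟨g, hx⟩, rfl⟩
  have e1 := ncard_orbit_mul M a
  have e2 : Nat.card (stabilizer M a) = Nat.card (stabilizer G a) := by
    refine Nat.card_congr ⟨fun u => ⟨u.1.1, u.2⟩, fun u => ⟨⟨u.1, Or.inl u.2⟩, u.2⟩, ?_, ?_⟩
    · intro u; rfl
    · intro u; rfl
  rw [hO, hBc, e2] at e1
  have e3 := Subgroup.card_subgroup_dvd_card M
  rw [← e1, h.card_eq] at e3
  exact hn (Nat.dvd_of_mul_dvd_mul_right Nat.card_pos e3)

/-- If the two-point stabiliser is transitive on the non-neighbours of `b` in `Δ`, then the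
stabiliser of `a` and `c'` is transitive on the common neighbours of `a` and `c'`. -/
theorem mu_trans [Finite G] (h : R3 G a b c k l)
    (hJ : ∀ x ∈ orbit (stabilizer G a) b, ∀ y ∈ orbit (stabilizer G a) b, x ≠ b → y ≠ b →
      ¬ Adj G a b b x → ¬ Adj G a b b y → ∃ g : G, g • a = a ∧ g • b = b ∧ g • x = y)
    {c' : Ω} (hc' : c' ∈ orbit (stabilizer G a) c) {x y : Ω}
    (hx : x ∈ orbit (stabilizer G a) b) (hy : y ∈ orbit (stabilizer G a) b)
    (hcx : Adj G a b c' x) (hcy : Adj G a b c' y) :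
    ∃ g : G, g • a = a ∧ g • c' = c' ∧ g • x = y := by
  have hca : c' ≠ a := fun e => h.a_not_mem_c (e ▸ hc')
  have key : ∀ z ∈ orbit (stabilizer G a) b, Adj G a b c' z → ∃ u : G, u • z = a ∧ u • a = b ∧
      u • c' ∈ orbit (stabilizer G a) b ∧ u • c' ≠ b ∧ ¬ Adj G a b b (u • c') := by
    intro z hz hcz
    obtain ⟨v, hv1, hv2⟩ := h.symm (adj_base_iff.2 hz)
    have e1 : v⁻¹ • z = a := inv_smul_eq_iff.2 hv1.symm
    have e2 : v⁻¹ • a = b := inv_smul_eq_iff.2 hv2.symm
    refine ⟨v⁻¹, e1, e2, ?_, ?_, ?_⟩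
    · have := (h.symm hcz).smul v⁻¹
      rw [e1] at this
      exact adj_base_iff.1 this
    · rw [← e2]; exact fun e => hca (MulAction.injective _ e)
    · intro e
      rw [← e2] at e
      conv at e => enter [3]; rw [e2]
      exact h.not_adj_c hc' (h.symm ((adj_smul_iff _).1 e))
  obtain ⟨u, hu1, hu2, hu3, hu4, hu5⟩ := key x hx hcx
  obtain ⟨v, hv1, hv2, hv3, hv4, hv5⟩ := key y hy hcy
  obtain ⟨g, hg1, hg2, hg3⟩ := hJ _ hu3 _ hv3 hu4 hv4 hu5 hv5
  refine ⟨v⁻¹ * g * u, ?_, ?_, ?_⟩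
  · rw [mul_smul, mul_smul, hu2, hg2, inv_smul_eq_iff, hv2]
  · rw [mul_smul, mul_smul, hg3, inv_smul_smul]
  · rw [mul_smul, mul_smul, hu1, hg1, inv_smul_eq_iff, hv1]

end R3

end CL.Rk3
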