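import Cfsg.Agent.Base
import Cfsg.Agent.Rk3.Basic

/-!
# Comparing two rank three groups with isomorphic point stabilisers
-/

set_option autoImplicit false

namespace CL.Rk3
open MulAction

section tr
variable {G Ω R X : Type*} [Group G] [MulAction G Ω] [Group R] [MulAction R X] {a : Ω} {a0 : X}

/-- the stabilisers of `b` and `b0` correspond under `θ` -/
def Match (θ : stabilizer G a ≃* stabilizer R a0) (b : Ω) (b0 : X) : Prop :=
  ∀ h : stabilizer G a, h • b = b ↔ θ h • b0 = b0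

open Classical in
/-- the equivariant map from the suborbit of `b` to the suborbit of `b0` -/
noncomputable def tr (θ : stabilizer G a ≃* stabilizer R a0) (b : Ω) (b0 : X) (x : Ω) : X :=
  if hx : ∃ h : stabilizer G a, h • b = x then θ hx.choose • b0 else b0

variable {θ : stabilizer G a ≃* stabilizer R a0} {b : Ω} {b0 : X}

theorem Match.eq_iff (hm : Match θ b b0) (u v : stabilizer G a) :
    u • b = v • b ↔ θ u • b0 = θ v • b0 := by
  rw [← inv_smul_eq_iff, ← mul_smul, hm, map_mul, map_inv, mul_smul, inv_smul_eq_iff]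

theorem Match.tr_smul_base (hm : Match θ b b0) (h : stabilizer G a) :
    tr θ b b0 (h • b) = θ h • b0 := by
  have hx : ∃ u : stabilizer G a, u • b = h • b := ⟨h, rfl⟩
  rw [tr, dif_pos hx]
  exact (hm.eq_iff _ _).1 hx.choose_spec

theorem Match.tr_self (hm : Match θ b b0) : tr θ b b0 b = b0 := by
  simpa using hm.tr_smul_base 1

theorem Match.tr_smul (hm : Match θ b b0) (h : stabilizer G a) {x : Ω}
    (hx : x ∈ orbit (stabilizer G a) b) : tr θ b b0 (h • x) = θ h • tr θ b b0 x := by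
  obtain ⟨u, rfl⟩ := hx
  simp only
  rw [← mul_smul, hm.tr_smul_base, hm.tr_smul_base, map_mul, mul_smul]

theorem Match.tr_mem (hm : Match θ b b0) {x : Ω} (hx : x ∈ orbit (stabilizer G a) b) :
    tr θ b b0 x ∈ orbit (stabilizer R a0) b0 := by
  obtain ⟨u, rfl⟩ := hx
  exact ⟨θ u, (hm.tr_smul_base u).symm⟩

theorem Match.injOn (hm : Match θ b b0) : Set.InjOn (tr θ b b0) (orbit (stabilizer G a) b) := by
  rintro _ ⟨u, rfl⟩ _ ⟨v, rfl⟩ e
  simp only at e ⊢
  rw [hm.tr_smul_base, hm.tr_smul_base] at e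
  exact (hm.eq_iff u v).2 e

theorem Match.exists_tr_eq (hm : Match θ b b0) {y : X} (hy : y ∈ orbit (stabilizer R a0) b0) :
    ∃ x ∈ orbit (stabilizer G a) b, tr θ b b0 x = y := by
  obtain ⟨u, rfl⟩ := hy
  exact ⟨θ.symm u • b, mem_orbit _ _, by rw [hm.tr_smul_base]; simp⟩

theorem Match.ncard_image (hm : Match θ b b0) (p : Ω → Prop) :
    (tr θ b b0 '' {z | z ∈ orbit (stabilizer G a) b ∧ p z}).ncard =
      {z | z ∈ orbit (stabilizer G a) b ∧ p z}.ncard :=
  (hm.injOn.mono fun _ h => h.1).ncard_image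

/-- if the image of the stabiliser of `b` fixes a point of the suborbit of `b0` and the suborbits
have the same length, a point of the suborbit of `b` matches `b0` -/
theorem exists_match [Finite G] (θ : stabilizer G a ≃* stabilizer R a0) {b : Ω} {b0 y : X}
    (hy : y ∈ orbit (stabilizer R a0) b0)
    (hc : (orbit (stabilizer G a) b).ncard = (orbit (stabilizer R a0) b0).ncard)
    (hle : ∀ h : stabilizer G a, h • b = b → θ h • y = y) :
    ∃ b' ∈ orbit (stabilizer G a) b, Match θ b' b0 := by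
  have : Finite (stabilizer R a0) := Finite.of_equiv _ θ.toEquiv
  have hm : Match θ b y := by
    have e : (stabilizer (stabilizer G a) b).map θ.toMonoidHom = stabilizer (stabilizer R a0) y := by
      apply Subgroup.eq_of_le_of_card_ge
      · rintro _ ⟨h, hh, rfl⟩; exact hle h hh
      · rw [Subgroup.card_map_of_injective θ.injective]
        have e1 := ncard_orbit_mul (stabilizer G a) b
        have e2 := ncard_orbit_mul (stabilizer R a0) y
        rw [orbit_eq_iff.2 hy, ← hc, ← Nat.card_congr θ.toEquiv, ← e1] at e2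
        have hpos : 0 < (orbit (stabilizer G a) b).ncard := by
          rcases Nat.eq_zero_or_pos (orbit (stabilizer G a) b).ncard with h0 | h0
          · rw [h0, zero_mul] at e1
            exact absurd e1.symm Nat.card_pos.ne'
          · exact h0
        exact (Nat.eq_of_mul_eq_mul_left hpos e2).le
    intro h
    refine ⟨hle h, fun hh => ?_⟩
    have : θ h ∈ (stabilizer (stabilizer G a) b).map θ.toMonoidHom := by rw [e]; exact hh
    obtain ⟨u, hu, e'⟩ := this
    rw [← θ.injective e']; exact hu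
  obtain ⟨u, rfl⟩ := hy
  refine ⟨(θ.symm u)⁻¹ • b, mem_orbit _ _, fun h => ?_⟩
  have := hm (θ.symm u * h * (θ.symm u)⁻¹)
  simp only [map_mul, map_inv, MulEquiv.apply_symm_apply, mul_smul, inv_smul_smul,
    smul_left_cancel_iff] at this
  rw [← this, eq_inv_smul_iff]

/-- transport of adjacency along two matched suborbits -/
theorem adj_iff_of_image {b : Ω} {b0 : X} {x y : Ω} {x0 y0 : X} (hx : Match θ x x0)
    (hy : Match θ y y0)
    (e : tr θ y y0 '' {z | z ∈ orbit (stabilizer G a) y ∧ Adj G a b x z} =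
      {z | z ∈ orbit (stabilizer R a0) y0 ∧ Adj R a0 b0 x0 z})
    {u v : Ω} (hu : u ∈ orbit (stabilizer G a) x) (hv : v ∈ orbit (stabilizer G a) y) :
    Adj G a b u v ↔ Adj R a0 b0 (tr θ x x0 u) (tr θ y y0 v) := by
  obtain ⟨h, rfl⟩ := hu
  obtain ⟨w, hw, rfl⟩ : ∃ w ∈ orbit (stabilizer G a) y, h • w = v :=
    ⟨h⁻¹ • v, smul_mem_orbit_stab (h⁻¹).2 hv, by simp⟩
  simp only
  rw [hx.tr_smul_base, hy.tr_smul h hw]
  refine (adj_smul_iff (h : G)).trans (Iff.trans ?_ (adj_smul_iff ((θ h : stabilizer R a0) : R)).symm)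
  constructor
  · intro h1
    have : tr θ y y0 w ∈ {z | z ∈ orbit (stabilizer R a0) y0 ∧ Adj R a0 b0 x0 z} := by
      rw [← e]; exact ⟨w, ⟨hw, h1⟩, rfl⟩
    exact this.2
  · intro h1
    have : tr θ y y0 w ∈ tr θ y y0 '' {z | z ∈ orbit (stabilizer G a) y ∧ Adj G a b x z} := by
      rw [e]; exact ⟨hy.tr_mem hw, h1⟩
    obtain ⟨w', hw', e'⟩ := this
    rw [← hy.injOn hw'.1 hw e']; exact hw'.2

/-- the transported neighbourhood of `x` is invariant under the matched stabiliser -/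
theorem image_invariant {b : Ω} {x y : Ω} {y0 : X} (hy : Match θ y y0)
    (h : stabilizer G a) (hh : h • x = x) {z : X}
    (hz : z ∈ tr θ y y0 '' {z | z ∈ orbit (stabilizer G a) y ∧ Adj G a b x z}) :
    θ h • z ∈ tr θ y y0 '' {z | z ∈ orbit (stabilizer G a) y ∧ Adj G a b x z} := by
  obtain ⟨w, hw, rfl⟩ := hz
  refine ⟨h • w, ⟨smul_mem_orbit_stab h.2 hw.1, ?_⟩, hy.tr_smul h hw.1⟩
  have := hw.2.smul (h : G)
  rwa [show (h : G) • x = x from hh] at this

theorem image_invariant' {b : Ω} {x y : Ω} {x0 y0 : X} (hx : Match θ x x0) (hy : Match θ y y0)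
    (g : R) (hg : g • a0 = a0) (hg' : g • x0 = x0) {z : X}
    (hz : z ∈ tr θ y y0 '' {z | z ∈ orbit (stabilizer G a) y ∧ Adj G a b x z}) :
    g • z ∈ tr θ y y0 '' {z | z ∈ orbit (stabilizer G a) y ∧ Adj G a b x z} := by
  have := image_invariant (b := b) hy (θ.symm ⟨g, hg⟩)
    ((hx _).2 (by rw [MulEquiv.apply_symm_apply]; exact hg')) hz
  rwa [MulEquiv.apply_symm_apply] at this

end tr

section compare
variable {G Ω R X : Type*} [Group G] [MulAction G Ω] [Group R] [MulAction R X] [Finite G] [Finite R]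
  {a b c : Ω} {a0 b0 c0 : X} {k l : ℕ} {θ : stabilizer G a ≃* stabilizer R a0}

/-- uniqueness of the neighbourhood of `b0` inside `Δ` -/
def U1 (R : Type*) {X : Type*} [Group R] [MulAction R X] (a0 b0 : X) (k l : ℕ) : Prop :=
  ∀ T : Set X, T ⊆ orbit (stabilizer R a0) b0 → b0 ∉ T →
    (∀ g : R, g • a0 = a0 → g • b0 = b0 → ∀ x ∈ T, g • x ∈ T) → T.ncard + 1 < k →
    l ∣ k * (k - 1 - T.ncard) → T = {z | z ∈ orbit (stabilizer R a0) b0 ∧ Adj R a0 b0 b0 z}

/-- uniqueness of the neighbourhood of `c0` inside the suborbit of `y0` -/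
def U2 (R : Type*) {X : Type*} [Group R] [MulAction R X] (a0 b0 c0 y0 : X) : Prop :=
  ∀ T : Set X, T ⊆ orbit (stabilizer R a0) y0 → c0 ∉ T →
    (∀ g : R, g • a0 = a0 → g • c0 = c0 → ∀ x ∈ T, g • x ∈ T) →
    T.ncard = R3.cnt R a0 b0 c0 y0 → T = {z | z ∈ orbit (stabilizer R a0) y0 ∧ Adj R a0 b0 c0 z}

omit [Finite R] in
theorem image_b (hG : R3 G a b c k l) (hn : ¬ (k + 1) ∣ 1 + k + l) (hb : Match θ b b0)
    (h1 : U1 R a0 b0 k l) :
    tr θ b b0 '' {z | z ∈ orbit (stabilizer G a) b ∧ Adj G a b b z} =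
      {z | z ∈ orbit (stabilizer R a0) b0 ∧ Adj R a0 b0 b0 z} := by
  have e1 := hG.cnt_b
  have e2 := hG.cnt_mul
  have e3 := hG.cnt_b_c_ne_zero hn
  apply h1
  · rintro _ ⟨w, hw, rfl⟩; exact hb.tr_mem hw.1
  · rintro ⟨w, hw, e⟩
    have : w = b := hb.injOn hw.1 (mem_orbit_self _) (e.trans hb.tr_self.symm)
    exact hG.irrefl b (this ▸ hw.2)
  · intro g hg hg' x hx; exact image_invariant' hb hb g hg hg' hx
  · rw [hb.ncard_image]
    change R3.cnt G a b b b + 1 < k
    omega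
  · rw [hb.ncard_image]
    change l ∣ k * (k - 1 - R3.cnt G a b b b)
    rw [show k - 1 - R3.cnt G a b b b = R3.cnt G a b b c by omega, e2]
    exact dvd_mul_right _ _

omit [Finite R] in
theorem adj_delta (hG : R3 G a b c k l) (hn : ¬ (k + 1) ∣ 1 + k + l) (hb : Match θ b b0)
    (h1 : U1 R a0 b0 k l) {x y : Ω} (hx : x ∈ orbit (stabilizer G a) b)
    (hy : y ∈ orbit (stabilizer G a) b) :
    Adj G a b x y ↔ Adj R a0 b0 (tr θ b b0 x) (tr θ b b0 y) :=
  adj_iff_of_image hb hb (image_b hG hn hb h1) hx hy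

theorem cnt_c_b_eq (hG : R3 G a b c k l) (hR : R3 R a0 b0 c0 k l) (hn : ¬ (k + 1) ∣ 1 + k + l)
    (hb : Match θ b b0) (h1 : U1 R a0 b0 k l) : R3.cnt G a b c b = R3.cnt R a0 b0 c0 b0 := by
  have e : R3.cnt G a b b b = R3.cnt R a0 b0 b0 b0 := by
    unfold R3.cnt
    rw [← image_b hG hn hb h1, hb.ncard_image]
  have e1 := hG.cnt_b
  have e2 := hG.cnt_mul
  have e3 := hR.cnt_b
  have e4 := hR.cnt_mul
  rw [show R3.cnt G a b b c = R3.cnt R a0 b0 b0 c0 by omega, e4] at e2
  exact (Nat.eq_of_mul_eq_mul_left (by have := hG.hl; omega) e2).symm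

/-- The transported set of common neighbours of `a` and `c'`: an orbit of the image of the
stabiliser of `c'`, of length `μ`. -/
theorem exists_mu (hG : R3 G a b c k l) (hR : R3 R a0 b0 c0 k l) (hn : ¬ (k + 1) ∣ 1 + k + l)
    (hb : Match θ b b0) (h1 : U1 R a0 b0 k l)
    (h3 : ∀ x ∈ orbit (stabilizer R a0) b0, ∀ y ∈ orbit (stabilizer R a0) b0, x ≠ b0 → y ≠ b0 →
      ¬ Adj R a0 b0 b0 x → ¬ Adj R a0 b0 b0 y → ∃ g : R, g • a0 = a0 ∧ g • b0 = b0 ∧ g • x = y)
    {c' : Ω} (hc' : c' ∈ orbit (stabilizer G a) c) :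
    ∃ M : Set X, M ⊆ orbit (stabilizer R a0) b0 ∧ M.ncard = R3.cnt R a0 b0 c0 b0 ∧
      (∀ h : stabilizer G a, h • c' = c' → ∀ z ∈ M, θ h • z ∈ M) ∧
      ∀ x ∈ M, ∀ y ∈ M, ∃ h : stabilizer G a, h • c' = c' ∧ θ h • x = y := by
  refine ⟨tr θ b b0 '' {z | z ∈ orbit (stabilizer G a) b ∧ Adj G a b c' z}, ?_, ?_, ?_, ?_⟩
  · rintro _ ⟨w, hw, rfl⟩; exact hb.tr_mem hw.1
  · rw [hb.ncard_image, ← cnt_c_b_eq hG hR hn hb h1, ← R3.cnt_eq hc']; rfl
  · intro h hh z hz; exact image_invariant hb h hh hz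
  · rintro _ ⟨x, hx, rfl⟩ _ ⟨y, hy, rfl⟩
    suffices hJ : _ by
      obtain ⟨g, hg1, hg2, hg3⟩ := hG.mu_trans hJ hc' hx.1 hy.1 hx.2 hy.2
      exact ⟨⟨g, hg1⟩, hg2, by rw [← hb.tr_smul _ hx.1, ← hg3]; rfl⟩
    · intro u hu v hv hub hvb hu' hv'
      have hbb := mem_orbit_self (M := stabilizer G a) b
      obtain ⟨g, hg1, hg2, hg3⟩ := h3 _ (hb.tr_mem hu) _ (hb.tr_mem hv)
        (fun e => hub (hb.injOn hu hbb (e.trans hb.tr_self.symm)))
        (fun e => hvb (hb.injOn hv hbb (e.trans hb.tr_self.symm)))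
        (fun e => hu' ((adj_delta hG hn hb h1 hbb hu).2 (by rwa [hb.tr_self])))
        (fun e => hv' ((adj_delta hG hn hb h1 hbb hv).2 (by rwa [hb.tr_self])))
      refine ⟨(θ.symm ⟨g, hg1⟩ : stabilizer G a), (θ.symm ⟨g, hg1⟩).2,
        (hb _).2 (by rw [MulEquiv.apply_symm_apply]; exact hg2), ?_⟩
      apply hb.injOn (smul_mem_orbit_stab (θ.symm ⟨g, hg1⟩).2 hu) hv
      have := hb.tr_smul (θ.symm ⟨g, hg1⟩) hu
      rw [MulEquiv.apply_symm_apply] at this
      exact this.trans hg3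

/-- With both suborbits matched, the two orbital graphs are isomorphic. -/
theorem exists_graph_equiv (hG : R3 G a b c k l) (hR : R3 R a0 b0 c0 k l)
    (hn : ¬ (k + 1) ∣ 1 + k + l) (hb : Match θ b b0) (hc : Match θ c c0) (h1 : U1 R a0 b0 k l)
    (h2 : U2 R a0 b0 c0 b0) (h3 : U2 R a0 b0 c0 c0) :
    ∃ φ : Ω ≃ X, ∀ x y, Adj G a b x y ↔ Adj R a0 b0 (φ x) (φ y) := by
  classical
  have := hR.finite
  have e0 := cnt_c_b_eq hG hR hn hb h1
  have ecb : tr θ b b0 '' {z | z ∈ orbit (stabilizer G a) b ∧ Adj G a b c z} =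
      {z | z ∈ orbit (stabilizer R a0) b0 ∧ Adj R a0 b0 c0 z} := by
    apply h2
    · rintro _ ⟨w, hw, rfl⟩; exact hb.tr_mem hw.1
    · rintro ⟨w, hw, e⟩
      exact hR.not_mem_both (e ▸ hb.tr_mem hw.1) (mem_orbit_self _)
    · intro g hg hg' x hx; exact image_invariant' hc hb g hg hg' hx
    · rw [hb.ncard_image, ← e0]; rfl
  have ecc : tr θ c c0 '' {z | z ∈ orbit (stabilizer G a) c ∧ Adj G a b c z} =
      {z | z ∈ orbit (stabilizer R a0) c0 ∧ Adj R a0 b0 c0 z} := by
    apply h3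
    · rintro _ ⟨w, hw, rfl⟩; exact hc.tr_mem hw.1
    · rintro ⟨w, hw, e⟩
      have : w = c := hc.injOn hw.1 (mem_orbit_self _) (e.trans hc.tr_self.symm)
      exact hG.irrefl c (this ▸ hw.2)
    · intro g hg hg' x hx; exact image_invariant' hc hc g hg hg' hx
    · rw [hc.ncard_image]
      have e1 := hG.cnt_c
      have e2 := hR.cnt_c
      change R3.cnt G a b c c = _
      omega
  let f : Ω → X := fun x => if x ∈ orbit (stabilizer G a) b then tr θ b b0 x
    else if x ∈ orbit (stabilizer G a) c then tr θ c c0 x else a0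
  have fa : f a = a0 := by simp only [f, if_neg hG.a_not_mem_b, if_neg hG.a_not_mem_c]
  have fb : ∀ x ∈ orbit (stabilizer G a) b, f x = tr θ b b0 x := fun x hx => if_pos hx
  have fc : ∀ x ∈ orbit (stabilizer G a) c, f x = tr θ c c0 x := fun x hx => by
    simp only [f, if_neg (fun h => hG.not_mem_both h hx), if_pos hx]
  have finj : Function.Injective f := by
    intro x y e
    rcases hG.cases x with rfl | hx | hx <;> rcases hG.cases y with rfl | hy | hy
    · rfl
    · rw [fa, fb y hy] at e; have := hb.tr_mem hy; rw [← e] at this; exact absurd this hR.a_not_mem_b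
    · rw [fa, fc y hy] at e; have := hc.tr_mem hy; rw [← e] at this; exact absurd this hR.a_not_mem_c
    · rw [fa, fb x hx] at e; have := hb.tr_mem hx; rw [e] at this; exact absurd this hR.a_not_mem_b
    · rw [fb x hx, fb y hy] at e; exact hb.injOn hx hy e
    · rw [fb x hx, fc y hy] at e; exact (hR.not_mem_both (e ▸ hb.tr_mem hx) (hc.tr_mem hy)).elim
    · rw [fa, fc x hx] at e; have := hc.tr_mem hx; rw [e] at this; exact absurd this hR.a_not_mem_c
    · rw [fc x hx, fb y hy] at e; exact (hR.not_mem_both (hb.tr_mem hy) (e ▸ hc.tr_mem hx)).elim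
    · rw [fc x hx, fc y hy] at e; exact hc.injOn hx hy e
  have ha : ∀ y, Adj G a b a y ↔ Adj R a0 b0 (f a) (f y) := by
    intro y
    rw [fa, adj_base_iff, adj_base_iff]
    rcases hG.cases y with rfl | hy | hy
    · rw [fa]; exact iff_of_false hG.a_not_mem_b hR.a_not_mem_b
    · rw [fb y hy]; exact iff_of_true hy (hb.tr_mem hy)
    · rw [fc y hy]
      exact iff_of_false (fun h => hG.not_mem_both h hy) fun h => hR.not_mem_both h (hc.tr_mem hy)
  have hsym : ∀ x y, (Adj G a b x y ↔ Adj R a0 b0 (f x) (f y)) →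
      (Adj G a b y x ↔ Adj R a0 b0 (f y) (f x)) := fun x y h =>
    ⟨fun h' => hR.symm (h.1 (hG.symm h')), fun h' => hG.symm (h.2 (hR.symm h'))⟩
  have hcb : ∀ x ∈ orbit (stabilizer G a) c, ∀ y ∈ orbit (stabilizer G a) b,
      (Adj G a b x y ↔ Adj R a0 b0 (f x) (f y)) := fun x hx y hy => by
    rw [fc x hx, fb y hy]; exact adj_iff_of_image hc hb ecb hx hy
  refine ⟨Equiv.ofBijective f ((Nat.bijective_iff_injective_and_card f).2
    ⟨finj, by rw [hG.card, hR.card]⟩), fun x y => ?_⟩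
  show _ ↔ Adj R a0 b0 (f x) (f y)
  rcases hG.cases x with rfl | hx | hx
  · exact ha y
  · rcases hG.cases y with rfl | hy | hy
    · exact hsym _ _ (ha x)
    · rw [fb x hx, fb y hy]; exact adj_delta hG hn hb h1 hx hy
    · exact hsym _ _ (hcb y hy x hx)
  · rcases hG.cases y with rfl | hy | hy
    · exact hsym _ _ (ha x)
    · exact hcb x hx y hy
    · rw [fc x hx, fc y hy]; exact adj_iff_of_image hc hc ecc hx hy

end compare

/-- automorphism group of the orbital graph -/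
def GAut (R : Type*) {X : Type*} [Group R] [MulAction R X] (a0 b0 : X) : Subgroup (Equiv.Perm X) where
  carrier := {σ | ∀ x y, Adj R a0 b0 (σ x) (σ y) ↔ Adj R a0 b0 x y}
  one_mem' := fun _ _ => Iff.rfl
  mul_mem' := fun {σ τ} hσ hτ x y => (hσ (τ x) (τ y)).trans (hτ x y)
  inv_mem' := fun {σ} hσ x y => by
    have := hσ (σ⁻¹ x) (σ⁻¹ y)
    simpa using this.symm

theorem mem_GAut {R X : Type*} [Group R] [MulAction R X] {a0 b0 : X} {σ : Equiv.Perm X} :
    σ ∈ GAut R a0 b0 ↔ ∀ x y, Adj R a0 b0 (σ x) (σ y) ↔ Adj R a0 b0 x y := Iff.rfl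

theorem toPerm_mem_GAut {R X : Type*} [Group R] [MulAction R X] (a0 b0 : X) (g : R) :
    MulAction.toPerm g ∈ GAut R a0 b0 := fun _ _ => adj_smul_iff g

/-- a simple group has no proper subgroup of index `≤ m` unless its order divides `m!` -/
theorem eq_top_of_index_le {R : Type*} [Group R] [Finite R] [IsSimpleGroup R] (K : Subgroup R)
    {m : ℕ} (hK : K.index ≤ m) (hm : ¬ Nat.card R ∣ m.factorial) : K = ⊤ := by
  classical
  rcases IsSimpleGroup.eq_bot_or_eq_top_of_normal K.normalCore inferInstance with h | h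
  · exfalso
    apply hm
    rw [Subgroup.normalCore_eq_ker, MonoidHom.ker_eq_bot_iff] at h
    have := Subgroup.card_dvd_of_injective _ h
    rw [Nat.card_perm] at this
    exact this.trans (Nat.factorial_dvd_factorial hK)
  · exact top_le_iff.1 (h ▸ K.normalCore_le)

/-- Final step: the two groups coincide inside the automorphism group of the graph. -/
theorem nonempty_mulEquiv {G Ω R X : Type*} [Group G] [MulAction G Ω] [Group R] [MulAction R X]
    [Finite G] [Finite R] [Finite X] [FaithfulSMul G Ω] [FaithfulSMul R X] [IsSimpleGroup R]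
    {a b : Ω} {a0 b0 : X} (φ : Ω ≃ X) (hφ : ∀ x y, Adj G a b x y ↔ Adj R a0 b0 (φ x) (φ y))
    (hcard : Nat.card G = Nat.card R) {m : ℕ} (hA : Nat.card (GAut R a0 b0) ≤ m * Nat.card R)
    (hm : ¬ Nat.card R ∣ m.factorial) : Nonempty (G ≃* R) := by
  let ψ : G →* Equiv.Perm X := (φ.permCongrHom.toMonoidHom).comp (MulAction.toPermHom G Ω)
  have hψ : Function.Injective ψ := φ.permCongrHom.injective.comp MulAction.toPerm_injective
  have hρ : Function.Injective (MulAction.toPermHom R X) := MulAction.toPerm_injective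
  have h1 : ψ.range ≤ GAut R a0 b0 := by
    rintro _ ⟨g, rfl⟩ x y
    obtain ⟨x, rfl⟩ := φ.surjective x
    obtain ⟨y, rfl⟩ := φ.surjective y
    have e : ∀ z, ψ g (φ z) = φ (g • z) := fun z => by simp [ψ]
    rw [e, e, ← hφ, ← hφ, adj_smul_iff]
  have h2 : (MulAction.toPermHom R X).range ≤ GAut R a0 b0 := by
    rintro _ ⟨g, rfl⟩; exact toPerm_mem_GAut a0 b0 g
  have c1 : Nat.card ψ.range = Nat.card R := by
    rw [← hcard]; exact (Nat.card_congr (MonoidHom.ofInjective hψ).toEquiv).symm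
  have c2 : Nat.card (MulAction.toPermHom R X).range = Nat.card R :=
    (Nat.card_congr (MonoidHom.ofInjective hρ).toEquiv).symm
  have hidx : ψ.range.relIndex (GAut R a0 b0) ≤ m := by
    have e := Subgroup.card_mul_index (ψ.range.subgroupOf (GAut R a0 b0))
    rw [Nat.card_congr (Subgroup.subgroupOfEquivOfLe h1).toEquiv, c1] at e
    rw [← e, mul_comm] at hA
    exact Nat.le_of_mul_le_mul_right hA Nat.card_pos
  have hK : ψ.range.comap (MulAction.toPermHom R X) = ⊤ := by
    refine eq_top_of_index_le _ ?_ hm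
    rw [Subgroup.index_comap]
    refine (Subgroup.relIndex_le_of_le_right h2 ?_).trans hidx
    exact Subgroup.FiniteIndex.index_ne_zero
  have h3 : (MulAction.toPermHom R X).range = ψ.range := by
    apply Subgroup.eq_of_le_of_card_ge
    · rintro _ ⟨g, rfl⟩
      have : g ∈ ψ.range.comap (MulAction.toPermHom R X) := by rw [hK]; trivial
      exact this
    · rw [c1, c2]
  exact ⟨(MonoidHom.ofInjective hψ).trans ((MulEquiv.subgroupCongr h3.symm).trans
    (MonoidHom.ofInjective hρ).symm)⟩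

end CL.Rk3
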