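import Cfsg.Agent.Base
import Cfsg.Agent.CGT.Coset
import Cfsg.Agent.Rk3.Transport

/-!
# Kernel checkers for orbital graphs

* `Enc X ρ N`: the `R`-set `X` is numbered by `{0, …, N-1}` compatibly with the representation `ρ`;
* `search`: enumeration of the unions of cells (orbits of an explicit subgroup);
* `run`: upper bounds for groups of graph automorphisms by individualisation and refinement;
* `isPGroup_gen`: a chain of normalising `p`-elements generates a `p`-group.
-/

set_option autoImplicit false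

namespace CL.Rk3
open CL.CGT MulAction

noncomputable section

/-- a numbering of the `R`-set `X` compatible with `ρ` -/
structure Enc {R : Type*} [Group R] (X : Type*) [MulAction R X] (ρ : Rep R) (N : ℕ) where
  pt : X → ℕ
  inj : Function.Injective pt
  lt : ∀ x, pt x < N
  surj : ∀ p < N, ∃ x, pt x = p
  smul : ∀ (g : R) (x : X), pt (g • x) = ρ.φ g (pt x)

/-- the numbering of the cosets -/
def cosetEnc {R : Type*} [Group R] {ρ : Rep R} {H : Subgroup R} {N : ℕ} (h : IsCoset ρ H N) :
    Enc (R ⧸ H) ρ N :=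
  ⟨h.pt, h.pt_injective, h.pt_lt, fun _ hp => h.exists_pt hp, h.pt_smul⟩

/-- number of bits below `N` -/
def pc (k e N m : ℕ) : ℕ := popc k e (Nat.land m (ones N))

/-- sum over a list -/
def sumL (g : ℕ → ℕ) (I : List ℕ) : ℕ :=
  @List.rec ℕ (fun _ => ℕ) 0 (fun j _ ih => Nat.add (g j) ih) I

theorem sumL_eq (g : ℕ → ℕ) (I : List ℕ) : sumL g I = (I.map g).sum := by
  induction I with
  | nil => rfl
  | cons a l ih => rw [List.map_cons, List.sum_cons, ← ih]; rfl

theorem sumL_congr {g g' : ℕ → ℕ} {I : List ℕ} (h : ∀ i ∈ I, g i = g' i) : sumL g I = sumL g' I := by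
  rw [sumL_eq, sumL_eq, List.map_congr_left h]

namespace Enc
variable {R : Type*} [Group R] {X : Type*} [MulAction R X] {ρ : Rep R} {N : ℕ} (E : Enc X ρ N)

/-- the set of a mask -/
def ms (m : ℕ) : Set X := {x | m.testBit (E.pt x) = true}

theorem mem_ms {m : ℕ} {x : X} : x ∈ E.ms m ↔ m.testBit (E.pt x) = true := Iff.rfl

theorem ms_land (m m' : ℕ) : E.ms (Nat.land m m') = E.ms m ∩ E.ms m' := by
  ext x; simp [mem_ms, testBit_land]

theorem ms_lor (m m' : ℕ) : E.ms (Nat.lor m m') = E.ms m ∪ E.ms m' := by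
  ext x; simp [mem_ms, testBit_lor]

theorem ms_zero : E.ms 0 = ∅ := by ext x; simp [mem_ms]

theorem ms_ones : E.ms (ones N) = Set.univ := by
  ext x; simp [mem_ms, testBit_ones, E.lt x]

theorem ms_sub {m m' : ℕ} (h : sub m m' = true) : E.ms m ⊆ E.ms m' := fun _ hx => sub_spec h hx

theorem mem_ms_sing {p : ℕ} {x : X} : x ∈ E.ms (sing p) ↔ E.pt x = p := by
  simp [mem_ms, testBit_sing]

include E in
theorem finite : Finite X :=
  Finite.of_injective (fun x => (⟨E.pt x, E.lt x⟩ : Fin N)) fun _ _ h => E.inj (congrArg Fin.val h)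

include E in
theorem card : Nat.card X = N := by
  have : Function.Bijective (fun x => (⟨E.pt x, E.lt x⟩ : Fin N)) := by
    refine ⟨fun _ _ h => E.inj (congrArg Fin.val h), fun p => ?_⟩
    obtain ⟨x, hx⟩ := E.surj p.1 p.2
    exact ⟨x, Fin.ext hx⟩
  rw [Nat.card_eq_of_bijective _ this]; simp

theorem ncard_ms {k e : ℕ} (hk : popOK k e (ones N) = true) (m : ℕ) :
    (E.ms m).ncard = pc k e N m := by
  have h1 : popOK k e (Nat.land m (ones N)) = true := by
    simp only [popOK, band_eq_true, beq_iff] at hk ⊢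
    refine ⟨Nat.eq_of_testBit_eq fun i => ?_, hk.2⟩
    have := congrArg (fun z => Nat.testBit z i) hk.1
    simp only [testBit_shr, Nat.zero_testBit] at this ⊢
    rw [testBit_land, this, Bool.and_false]
  rw [pc, ← ncard_bset_eq_popc h1, ← Set.ncard_image_of_injective _ E.inj]
  congr 1
  ext p
  simp only [Set.mem_image, mem_ms, mem_bset, testBit_land, testBit_ones, Bool.and_eq_true,
    decide_eq_true_eq]
  constructor
  · rintro ⟨x, hx, rfl⟩; exact ⟨hx, E.lt x⟩
  · rintro ⟨h2, h3⟩
    obtain ⟨x, rfl⟩ := E.surj p h3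
    exact ⟨x, h2, rfl⟩

theorem pt_wval (w : List ℕ) (x : X) : E.pt (wval ρ.γ w • x) = walk ρ.ns w (E.pt x) := by
  rw [E.smul, ρ.φ_wval_apply]

theorem wval_smul_eq {w : List ℕ} {x y : X} (h : walk ρ.ns w (E.pt x) = E.pt y) :
    wval ρ.γ w • x = y := E.inj (by rw [E.pt_wval, h])

theorem mem_ms_pullW {w : List ℕ} {m : ℕ} {x : X} :
    x ∈ E.ms (pullW ρ.ns w m) ↔ wval ρ.γ w • x ∈ E.ms m := by
  rw [mem_ms, mem_ms, testBit_pullW ρ.ok, E.pt_wval]

theorem gen_le_stabilizer {gens : List (List ℕ)} {x : X} (h : fixW ρ.ns gens (E.pt x) = true) :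
    gen ρ.γ gens ≤ stabilizer R x := fun g hg =>
  E.inj (by rw [E.smul]; exact ρ.gen_le_stab h hg)

theorem exists_of_mem_grow {K : Subgroup R} {gens : List (List ℕ)} (hK : gen ρ.γ gens ≤ K)
    {steps : List ℕ} {x y : X} (hy : y ∈ E.ms (grow ρ.ns gens steps (sing (E.pt x)))) :
    ∃ g ∈ K, g • x = y := by
  obtain ⟨g, hg, e⟩ := ρ.grow_subset hK steps (ρ.bset_sing_subset K _) hy
  exact ⟨g, hg, E.inj (by rw [E.smul, e])⟩

theorem smul_mem_ms_iff {gens : List (List ℕ)} {S : ℕ} (h : closedW ρ.ns gens S = true) {g : R}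
    (hg : g ∈ gen ρ.γ gens) (x : X) : g • x ∈ E.ms S ↔ x ∈ E.ms S := by
  have := ρ.apply_mem_iff_of_closedW h hg (E.pt x)
  rwa [← E.smul] at this

/-- neighbourhood masks -/
theorem adj_iff_mem {a0 b0 : X} {D : ℕ} (hD : orbit (stabilizer R a0) b0 = E.ms D) {u : List ℕ}
    {x : X} (hu : walk ρ.ns u (E.pt x) = E.pt a0) (z : X) :
    Adj R a0 b0 x z ↔ z ∈ E.ms (pullW ρ.ns u D) := by
  rw [E.mem_ms_pullW, ← hD, ← adj_base_iff, ← adj_smul_iff (wval ρ.γ u), E.wval_smul_eq hu]

end Enc

/-! ### unions of cells -/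

/-- the mask of cell `i` -/
def cm (ns : List Net) (gens : List (List ℕ)) (L : List (ℕ × List ℕ)) (i : ℕ) : ℕ :=
  grow ns gens (getD' L (0, []) i).2 (sing (getD' L (0, []) i).1)

/-- union of the first `r` masks -/
def unionLt (c : ℕ → ℕ) (r : ℕ) : ℕ := @Nat.rec (fun _ => ℕ) 0 (fun i ih => Nat.lor ih (c i)) r

theorem testBit_unionLt (c : ℕ → ℕ) (r p : ℕ) :
    (unionLt c r).testBit p = true ↔ ∃ i < r, (c i).testBit p = true := by
  induction r with
  | zero => simp [unionLt]
  | succ r ih =>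
    show (Nat.lor (unionLt c r) (c r)).testBit p = true ↔ _
    rw [testBit_lor, Bool.or_eq_true, ih]
    constructor
    · rintro (⟨i, hi, h⟩ | h)
      · exact ⟨i, by omega, h⟩
      · exact ⟨r, by omega, h⟩
    · rintro ⟨i, hi, h⟩
      rcases Nat.lt_succ_iff_lt_or_eq.1 hi with h1 | rfl
      · exact Or.inl ⟨i, h1, h⟩
      · exact Or.inr h

/-- the cells are disjoint, have the lengths `cs` and cover `Y` -/
def cellsOK (ns : List Net) (gens : List (List ℕ)) (L : List (ℕ × List ℕ)) (k e N r : ℕ)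
    (cs : ℕ → ℕ) (Y : ℕ) : Bool :=
  band (allLt r fun i => band (band (Nat.ble (Nat.succ (getD' L (0, []) i).1) N)
      (tb (cm ns gens L i) (getD' L (0, []) i).1))
      (band (Nat.beq (Nat.land (unionLt (cm ns gens L) i) (cm ns gens L i)) 0)
        (Nat.beq (pc k e N (cm ns gens L i)) (cs i))))
    (band (sub Y (unionLt (cm ns gens L) r)) (popOK k e (ones N)))

/-- the subset sums of the first `r` lengths -/
def rch (cs : ℕ → ℕ) (r : ℕ) : ℕ :=
  @Nat.rec (fun _ => ℕ) 1 (fun i ih => Nat.lor ih (Nat.shiftLeft ih (cs i))) r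

/-- run through the subsets of `{0, …, r-1}` whose total length lies in the bit set `A` -/
def go (f : List ℕ → ℕ → Bool) (cs : ℕ → ℕ) (A r : ℕ) : List ℕ → ℕ → Bool :=
  @Nat.rec (fun _ => List ℕ → ℕ → Bool) (fun I s => cnd (tb A s) (f I s) true)
    (fun i ih I s => cnd (Nat.beq (Nat.land (Nat.shiftLeft (rch cs (Nat.succ i)) s) A) 0) true
      (band (ih I s) (ih (i :: I) (Nat.add s (cs i))))) r

/-- selected indices -/
def sel (p : ℕ → Bool) (r : ℕ) : List ℕ := (List.range r).filter p

theorem mem_sel {p : ℕ → Bool} {r i : ℕ} : i ∈ sel p r ↔ i < r ∧ p i = true := by simp [sel]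

theorem sel_succ (p : ℕ → Bool) (r : ℕ) :
    sel p (r + 1) = if p r = true then sel p r ++ [r] else sel p r := by
  rw [sel, List.range_succ, List.filter_append]
  by_cases h : p r = true <;> simp [h, sel]

theorem sumL_sel_succ (g : ℕ → ℕ) (p : ℕ → Bool) (r : ℕ) :
    sumL g (sel p (r + 1)) = sumL g (sel p r) + if p r = true then g r else 0 := by
  rw [sel_succ]
  by_cases h : p r = true <;> simp [h, sumL_eq]

theorem testBit_rch (cs : ℕ → ℕ) (p : ℕ → Bool) (r : ℕ) :
    (rch cs r).testBit (sumL cs (sel p r)) = true := by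
  induction r with
  | zero => show Nat.testBit 1 0 = true; decide
  | succ r ih =>
    show (Nat.lor (rch cs r) (Nat.shiftLeft (rch cs r) (cs r))).testBit _ = true
    rw [testBit_lor, testBit_shl, sumL_sel_succ]
    by_cases h : p r = true
    · simp [h, ih]
    · simp [h, ih]

theorem go_spec {f : List ℕ → ℕ → Bool} {cs : ℕ → ℕ} {A : ℕ} (p : ℕ → Bool) (r : ℕ) (I : List ℕ)
    (s : ℕ) (h : go f cs A r I s = true) (hA : A.testBit (s + sumL cs (sel p r)) = true) :
    f (sel p r ++ I) (s + sumL cs (sel p r)) = true := by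
  induction r generalizing I s with
  | zero =>
    change cnd (tb A s) (f I s) true = true at h
    change A.testBit s = true at hA
    rw [tb_eq, hA] at h
    exact h
  | succ r ih =>
    change cnd (Nat.beq (Nat.land (Nat.shiftLeft (rch cs (r + 1)) s) A) 0) true
      (band (go f cs A r I s) (go f cs A r (r :: I) (s + cs r))) = true at h
    have h0 : Nat.beq (Nat.land (Nat.shiftLeft (rch cs (r + 1)) s) A) 0 = false := by
      rw [Bool.eq_false_iff]
      intro h1
      have := congrArg (fun z => Nat.testBit z (s + sumL cs (sel p (r + 1)))) (beq_iff.1 h1)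
      simp only [testBit_land, testBit_shl, hA, Nat.add_sub_cancel_left, testBit_rch] at this
      simp at this
    rw [h0, cnd_false, band_eq_true] at h
    rw [sumL_sel_succ] at hA ⊢
    rw [sel_succ]
    by_cases hp : p r = true
    · simp only [hp, if_true] at hA ⊢
      rw [List.append_assoc, List.singleton_append, ← add_assoc, add_right_comm]
      exact ih _ _ h.2 (by rwa [add_right_comm, add_assoc])
    · simp only [hp] at hA ⊢
      exact ih _ _ h.1 hA

section search
variable {R : Type*} [Group R] {X : Type*} [MulAction R X] {ρ : Rep R} {N : ℕ} (E : Enc X ρ N)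

theorem Enc.ncard_sel {c : ℕ → ℕ} {k e : ℕ} (hk : popOK k e (ones N) = true) (p : ℕ → Bool) (m r : ℕ)
    (hd : ∀ i < r, Nat.land (unionLt c i) (c i) = 0) :
    ({x | ∃ i ∈ sel p r, x ∈ E.ms (c i)} ∩ E.ms m).ncard =
      sumL (fun j => pc k e N (Nat.land m (c j))) (sel p r) := by
  have := E.finite
  induction r with
  | zero => simp [sel, sumL_eq]
  | succ r ih =>
    rw [sumL_sel_succ, ← ih fun i hi => hd i (by omega), sel_succ]
    by_cases hp : p r = true
    · simp only [hp, if_true]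
      rw [← E.ncard_ms hk, E.ms_land, ← Set.ncard_union_eq]
      · congr 1
        ext x
        simp only [List.mem_append, List.mem_singleton, Set.mem_inter_iff, Set.mem_ofPred_eq,
          Set.mem_union]
        constructor
        · rintro ⟨⟨i, hi | rfl, hx⟩, hm⟩
          · exact Or.inl ⟨⟨i, hi, hx⟩, hm⟩
          · exact Or.inr ⟨hm, hx⟩
        · rintro (⟨⟨i, hi, hx⟩, hm⟩ | ⟨hm, hx⟩)
          · exact ⟨⟨i, Or.inl hi, hx⟩, hm⟩
          · exact ⟨⟨r, Or.inr rfl, hx⟩, hm⟩
      · rw [Set.disjoint_left]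
        rintro x ⟨⟨i, hi, hx⟩, -⟩ ⟨-, hx'⟩
        have := congrArg (fun z => Nat.testBit z (E.pt x)) (hd r (by omega))
        simp only [testBit_land, Nat.zero_testBit] at this
        rw [(testBit_unionLt c r _).2 ⟨i, (mem_sel.1 hi).1, hx⟩, E.mem_ms.1 hx'] at this
        exact absurd this (by simp)
    · simp [hp]

/-- Every invariant subset of `Y` whose size lies in `A` is a union of cells passing the test `f`. -/
theorem Enc.search {gens : List (List ℕ)} {L : List (ℕ × List ℕ)} {k e r Y A : ℕ} {cs : ℕ → ℕ}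
    {f : List ℕ → ℕ → Bool} (hc : cellsOK ρ.ns gens L k e N r cs Y = true)
    (hgo : go f cs A r [] 0 = true) {K : Subgroup R} (hK : gen ρ.γ gens ≤ K) {T : Set X}
    (hT : T ⊆ E.ms Y) (hinv : ∀ g ∈ K, ∀ x ∈ T, g • x ∈ T) (hA : A.testBit T.ncard = true) :
    ∃ I : List ℕ, (∀ i ∈ I, i < r ∧ ∃ x ∈ T, E.pt x = (getD' L (0, []) i).1) ∧
      T = {x | ∃ i ∈ I, x ∈ E.ms (cm ρ.ns gens L i)} ∧
      (∀ m, (T ∩ E.ms m).ncard = sumL (fun j => pc k e N (Nat.land m (cm ρ.ns gens L j))) I) ∧
      f I T.ncard = true := by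
  classical
  simp only [cellsOK, band_eq_true] at hc
  obtain ⟨h1, h2, hk⟩ := hc
  have h3 := fun i hi => by simpa only [band_eq_true, blt_iff, tb_eq, beq_iff] using allLt_spec h1 i hi
  let p : ℕ → Bool := fun i => decide (∃ x ∈ T, E.pt x = (getD' L (0, []) i).1)
  have eT : T = {x | ∃ i ∈ sel p r, x ∈ E.ms (cm ρ.ns gens L i)} := by
    ext x
    constructor
    · intro hx
      obtain ⟨i, hi, hxi⟩ := (testBit_unionLt _ _ _).1 (sub_spec h2 (hT hx))
      refine ⟨i, mem_sel.2 ⟨hi, decide_eq_true ?_⟩, hxi⟩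
      obtain ⟨y, hy⟩ := E.surj _ (h3 i hi).1.1
      obtain ⟨g, hg, e⟩ := E.exists_of_mem_grow (x := y) (y := x) hK (by rw [hy]; exact hxi)
      exact ⟨y, by simpa [← e] using hinv _ (K.inv_mem hg) x hx, hy⟩
    · rintro ⟨i, hi, hxi⟩
      obtain ⟨y, hyT, hy⟩ := of_decide_eq_true (mem_sel.1 hi).2
      obtain ⟨g, hg, e⟩ := E.exists_of_mem_grow (x := y) (y := x) hK (by rw [hy]; exact hxi)
      exact e ▸ hinv g hg y hyT
  have hs : ∀ m, (T ∩ E.ms m).ncard =
      sumL (fun j => pc k e N (Nat.land m (cm ρ.ns gens L j))) (sel p r) := fun m => by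
    rw [← E.ncard_sel hk p m r fun i hi => (h3 i hi).2.1, ← eT]
  have hn : T.ncard = 0 + sumL cs (sel p r) := by
    have := hs (ones N)
    rw [E.ms_ones, Set.inter_univ] at this
    rw [this, zero_add]
    refine sumL_congr fun i hi => ?_
    rw [← (h3 i (mem_sel.1 hi).1).2.2, ← E.ncard_ms hk, ← E.ncard_ms hk, E.ms_land, E.ms_ones,
      Set.univ_inter]
  refine ⟨sel p r, fun i hi => ⟨(mem_sel.1 hi).1, of_decide_eq_true (mem_sel.1 hi).2⟩, eT, hs, ?_⟩
  have := go_spec p r [] 0 hgo (hn ▸ hA)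
  rwa [List.append_nil, ← hn] at this

/-- uniqueness form: only the selection `I0` has an admissible size -/
theorem Enc.search_eq {gens : List (List ℕ)} {L : List (ℕ × List ℕ)} {k e r Y A : ℕ} {cs : ℕ → ℕ}
    {I0 : List ℕ} (hc : cellsOK ρ.ns gens L k e N r cs Y = true)
    (hgo : go (fun I _ => beqL I I0) cs A r [] 0 = true) {K : Subgroup R} (hK : gen ρ.γ gens ≤ K)
    {T : Set X} (hT : T ⊆ E.ms Y) (hinv : ∀ g ∈ K, ∀ x ∈ T, g • x ∈ T)
    (hA : A.testBit T.ncard = true) : T = {x | ∃ i ∈ I0, x ∈ E.ms (cm ρ.ns gens L i)} := by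
  obtain ⟨I, -, e, -, h⟩ := E.search hc hgo hK hT hinv hA
  rw [e, beqL_spec h]

end search

/-- row sum of the packed table `T` (12 bits per entry, `r` columns) over the columns `I` -/
def rowS (T r i : ℕ) (I : List ℕ) : ℕ := sumL (fun j => dig T 12 (Nat.add (Nat.mul i r) j)) I

/-- all rows in `I` have the sum `d` -/
def regD (T r : ℕ) (I : List ℕ) (d : ℕ) : Bool := allL I fun i => Nat.beq (rowS T r i I) d

/-- the table `T` lists the numbers of neighbours of the representatives in the cells -/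
def tableOK (ns : List Net) (gens : List (List ℕ)) (L : List (ℕ × List ℕ)) (k e N r : ℕ)
    (U : List (List ℕ)) (q D T : ℕ) : Bool :=
  allLt r fun i => band (Nat.beq (walk ns (getD' U [] i) (getD' L (0, []) i).1) q)
    (allLt r fun j => Nat.beq (dig T 12 (Nat.add (Nat.mul i r) j))
      (pc k e N (Nat.land (pullW ns (getD' U [] i) D) (cm ns gens L j))))

theorem allL_of {α : Type} {l : List α} {f : α → Bool} (h : ∀ x ∈ l, f x = true) : allL l f = true := by
  induction l with
  | nil => rfl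
  | cons a l ih =>
    show band (f a) (allL l f) = true
    rw [band_eq_true]
    exact ⟨h a List.mem_cons_self, ih fun x hx => h x (List.mem_cons_of_mem _ hx)⟩

/-- Search among the invariant subsets on which the orbital graph is regular of degree `d`. -/
theorem Enc.search_reg {R : Type*} [Group R] {X : Type*} [MulAction R X] {ρ : Rep R} {N : ℕ}
    (E : Enc X ρ N) {gens : List (List ℕ)} {L : List (ℕ × List ℕ)} {k e r Y A : ℕ} {cs : ℕ → ℕ}
    {a0 b0 : X} {D Tb : ℕ} {U : List (List ℕ)} (hD : orbit (stabilizer R a0) b0 = E.ms D)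
    {f : List ℕ → ℕ → ℕ → Bool} (hc : cellsOK ρ.ns gens L k e N r cs Y = true)
    (ht : tableOK ρ.ns gens L k e N r U (E.pt a0) D Tb = true)
    (hgo : go (fun I s => cnd (regD Tb r I (rowS Tb r (getD' I 0 0) I))
      (f I s (rowS Tb r (getD' I 0 0) I)) true) cs A r [] 0 = true)
    {K : Subgroup R} (hK : gen ρ.γ gens ≤ K) {T : Set X}
    (hT : T ⊆ E.ms Y) (hinv : ∀ g ∈ K, ∀ x ∈ T, g • x ∈ T) (hA : A.testBit T.ncard = true)
    (hne : T.Nonempty) {d : ℕ} (hd : ∀ x ∈ T, (T ∩ {z | Adj R a0 b0 x z}).ncard = d) :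
    ∃ I : List ℕ, T = {x | ∃ i ∈ I, x ∈ E.ms (cm ρ.ns gens L i)} ∧ f I T.ncard d = true := by
  obtain ⟨I, h1, h2, h3, h4⟩ := E.search hc hgo hK hT hinv hA
  have key : ∀ i ∈ I, rowS Tb r i I = d := by
    intro i hi
    obtain ⟨hir, x, hx, e⟩ := h1 i hi
    have h5 := allLt_spec ht i hir
    rw [band_eq_true, beq_iff] at h5
    have h6 : {z | Adj R a0 b0 x z} = E.ms (pullW ρ.ns (getD' U [] i) D) := by
      ext z; exact E.adj_iff_mem hD (by rw [e]; exact h5.1) z
    rw [← hd x hx, h6, h3, rowS]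
    exact sumL_congr fun j hj => beq_iff.1 (allLt_spec h5.2 j (h1 j hj).1)
  have h0 : getD' I 0 0 ∈ I := by
    cases I with
    | nil => obtain ⟨x, hx⟩ := hne; rw [h2] at hx; simp at hx
    | cons a l => exact List.mem_cons_self
  rw [key _ h0] at h4
  have : regD Tb r I d = true := allL_of fun i hi => beq_iff.2 (key i hi)
  rw [this, cnd_true] at h4
  exact ⟨I, h2, h4⟩

/-! ### bounds for groups of automorphisms -/

/-- at most one bit -/
def single (S : ℕ) : Bool := Nat.beq (Nat.land S (Nat.sub S 1)) 0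

theorem single_spec {S i j : ℕ} (h : single S = true) (hi : S.testBit i = true)
    (hj : S.testBit j = true) : i = j := by
  have h0 : S ≠ 0 := by rintro rfl; simp at hi
  obtain ⟨k, rfl⟩ := (Nat.and_sub_one_eq_zero_iff_isPowerOfTwo h0).1 (beq_iff.1 h)
  rw [Nat.testBit_two_pow] at hi hj
  exact (of_decide_eq_true hi).symm.trans (of_decide_eq_true hj)

/-- the masks separate the points of `S` -/
def sep (ms : List ℕ) : ℕ → Bool :=
  @List.rec ℕ (fun _ => ℕ → Bool) (fun S => single S)
    (fun m _ ih S => cnd (single S) true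
      (band (ih (Nat.land S m)) (ih (Nat.xor S (Nat.land S m))))) ms

theorem sep_spec {ms : List ℕ} {S i j : ℕ} (h : sep ms S = true) (hi : S.testBit i = true)
    (hj : S.testBit j = true) (hm : ∀ m ∈ ms, m.testBit i = m.testBit j) : i = j := by
  induction ms generalizing S with
  | nil => exact single_spec h hi hj
  | cons m l ih =>
    change cnd (single S) true (band (sep l (Nat.land S m)) (sep l (Nat.xor S (Nat.land S m)))) = true at h
    cases h1 : single S
    · rw [h1, cnd_false, band_eq_true] at h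
      have e := hm m List.mem_cons_self
      have hm' := fun m' hm' => hm m' (List.mem_cons_of_mem _ hm')
      cases h2 : m.testBit j
      · rw [h2] at e
        exact ih h.2 (by simp [testBit_xor', testBit_land, hi, e])
          (by simp [testBit_xor', testBit_land, hj, h2]) hm'
      · rw [h2] at e
        exact ih h.1 (by simp [testBit_land, hi, e]) (by simp [testBit_land, hj, h2]) hm'
    · exact single_spec h1 hi hj

/-- the cell of `x` in the partition defined by the masks -/
def cellOf (N : ℕ) (ms : List ℕ) (x : ℕ) : ℕ :=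
  @List.rec ℕ (fun _ => ℕ) (ones N)
    (fun m _ ih => frc ih (cnd (tb m x) (Nat.land ih m) (Nat.xor ih (Nat.land ih m)))) ms

theorem testBit_cellOf {N : ℕ} {ms : List ℕ} {x y : ℕ} (hy : y < N)
    (h : ∀ m ∈ ms, m.testBit y = m.testBit x) : (cellOf N ms x).testBit y = true := by
  induction ms with
  | nil => simp [cellOf, testBit_ones, hy]
  | cons m l ih =>
    have ih' := ih fun m' hm' => h m' (List.mem_cons_of_mem _ hm')
    have e := h m List.mem_cons_self
    show (frc (cellOf N l x) (cnd (tb m x) (Nat.land (cellOf N l x) m)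
      (Nat.xor (cellOf N l x) (Nat.land (cellOf N l x) m)))).testBit y = true
    rw [frc_eq, tb_eq]
    cases h2 : m.testBit x
    · rw [h2] at e; simp [testBit_xor', testBit_land, ih', e]
    · rw [h2] at e; simp [testBit_land, ih', e]

/-- steps of a refinement certificate -/
inductive AStep : Type
  | ind (x : ℕ) : AStep
  | rule (j : ℕ) (u : List ℕ) : AStep

/-- run a refinement certificate; the result is a bound for the order (`0`: failure) -/
def run (ns : List Net) (k e N : ℕ) (rules : List (ℕ × ℕ)) (fin : List ℕ → ℕ → Bool)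
    (steps : List AStep) : List ℕ → ℕ → ℕ :=
  @List.rec AStep (fun _ => List ℕ → ℕ → ℕ) (fun ms F => cnd (fin ms F) 1 0)
    (fun st _ ih ms F => @AStep.rec (fun _ => ℕ)
      (fun x => cnd (Nat.ble (Nat.succ x) N)
        (Nat.mul (pc k e N (cellOf N ms x)) (ih (sing x :: ms) (Nat.lor F (sing x)))) 0)
      (fun j u => cnd (sub (pullW ns u (getD' rules (0, 0) j).1) F)
        (frc (pullW ns u (getD' rules (0, 0) j).2) (ih (pullW ns u (getD' rules (0, 0) j).2 :: ms) F)) 0)
      st) steps

section run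
variable {R : Type*} [Group R] {X : Type*} [MulAction R X] {ρ : Rep R} {N : ℕ} (E : Enc X ρ N)

/-- `σ` preserves the set of the mask `m` -/
def Enc.Pres (σ : Equiv.Perm X) (m : ℕ) : Prop := ∀ z, σ z ∈ E.ms m ↔ z ∈ E.ms m

/-- `σ` fixes the points of the mask `m` -/
def Enc.Fixes (σ : Equiv.Perm X) (m : ℕ) : Prop := ∀ z ∈ E.ms m, σ z = z

theorem Enc.Pres.testBit {E : Enc X ρ N} {σ : Equiv.Perm X} {m : ℕ} (h : E.Pres σ m) (z : X) :
    m.testBit (E.pt (σ z)) = m.testBit (E.pt z) := Bool.eq_iff_iff.2 (h z)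

theorem Enc.card_le_run {k e : ℕ} (hk : popOK k e (ones N) = true) {rules : List (ℕ × ℕ)}
    {A : Subgroup (Equiv.Perm X)}
    (hA : ∀ (g : R), ∀ σ ∈ A, toPerm g * σ * (toPerm g)⁻¹ ∈ A)
    (hr : ∀ t ∈ rules, ∀ σ ∈ A, E.Fixes σ t.1 → E.Pres σ t.2) {fin : List ℕ → ℕ → Bool}
    (hfin : ∀ ms F, fin ms F = true → ∀ σ ∈ A, (∀ m ∈ ms, E.Pres σ m) → E.Fixes σ F → σ = 1)
    (steps : List AStep) {ms : List ℕ} {F : ℕ} {K : Subgroup (Equiv.Perm X)} (hK : K ≤ A)
    (hms : ∀ σ ∈ K, ∀ m ∈ ms, E.Pres σ m) (hF : ∀ σ ∈ K, E.Fixes σ F)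
    (h0 : run ρ.ns k e N rules fin steps ms F ≠ 0) :
    Nat.card K ≤ run ρ.ns k e N rules fin steps ms F := by
  have := E.finite
  induction steps generalizing ms F K with
  | nil =>
    change cnd (fin ms F) 1 0 ≠ 0 at h0
    change _ ≤ cnd (fin ms F) 1 0
    cases h : fin ms F
    · rw [h] at h0; exact absurd rfl h0
    · have : K = ⊥ := eq_bot_iff.2 fun σ hσ => hfin ms F h σ (hK hσ) (hms σ hσ) (hF σ hσ)
      rw [this]; simp
  | cons st l ih =>
    cases st with
    | ind x =>
      change cnd (Nat.ble (Nat.succ x) N) (Nat.mul (pc k e N (cellOf N ms x))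
        (run ρ.ns k e N rules fin l (sing x :: ms) (Nat.lor F (sing x)))) 0 ≠ 0 at h0
      change _ ≤ cnd (Nat.ble (Nat.succ x) N) (Nat.mul (pc k e N (cellOf N ms x))
        (run ρ.ns k e N rules fin l (sing x :: ms) (Nat.lor F (sing x)))) 0
      cases h : Nat.ble (Nat.succ x) N
      · rw [h] at h0; exact absurd rfl h0
      rw [h, cnd_true] at h0
      rw [cnd_true]
      obtain ⟨y, rfl⟩ := E.surj x (blt_iff.1 h)
      have h1 := ih (K := K ⊓ stabilizer (Equiv.Perm X) y) (ms := sing (E.pt y) :: ms)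
        (F := Nat.lor F (sing (E.pt y))) (inf_le_left.trans hK) ?_ ?_ (right_ne_zero_of_mul h0)
      · have h2 : (orbit K y).ncard ≤ pc k e N (cellOf N ms (E.pt y)) := by
          rw [← E.ncard_ms hk]
          refine Set.ncard_le_ncard ?_
          rintro _ ⟨σ, rfl⟩
          exact testBit_cellOf (E.lt _) fun m hm => (hms σ σ.2 m hm).testBit y
        have h3 : Nat.card (stabilizer K y) = Nat.card ↥(K ⊓ stabilizer (Equiv.Perm X) y) :=
          Nat.card_congr ⟨fun h => ⟨h.1.1, h.1.2, h.2⟩, fun h => ⟨⟨h.1, h.2.1⟩, h.2.2⟩,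
            fun _ => rfl, fun _ => rfl⟩
        rw [← ncard_orbit_mul K y, h3]
        exact Nat.mul_le_mul h2 h1
      · intro σ hσ m hm
        rcases List.mem_cons.1 hm with rfl | hm
        · intro z
          rw [E.mem_ms_sing, E.mem_ms_sing, E.inj.eq_iff, E.inj.eq_iff]
          have : σ y = y := hσ.2
          conv_lhs => rw [← this]
          exact σ.injective.eq_iff
        · exact hms σ hσ.1 m hm
      · intro σ hσ z hz
        rw [E.ms_lor] at hz
        rcases hz with hz | hz
        · exact hF σ hσ.1 z hz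
        · rw [E.inj (E.mem_ms_sing.1 hz)]; exact hσ.2
    | rule j u =>
      change cnd (sub (pullW ρ.ns u (getD' rules (0, 0) j).1) F)
        (frc (pullW ρ.ns u (getD' rules (0, 0) j).2)
          (run ρ.ns k e N rules fin l (pullW ρ.ns u (getD' rules (0, 0) j).2 :: ms) F)) 0 ≠ 0 at h0
      change _ ≤ cnd (sub (pullW ρ.ns u (getD' rules (0, 0) j).1) F)
        (frc (pullW ρ.ns u (getD' rules (0, 0) j).2)
          (run ρ.ns k e N rules fin l (pullW ρ.ns u (getD' rules (0, 0) j).2 :: ms) F)) 0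
      cases h : sub (pullW ρ.ns u (getD' rules (0, 0) j).1) F
      · rw [h] at h0; exact absurd rfl h0
      rw [h, cnd_true, frc_eq] at h0
      rw [cnd_true, frc_eq]
      refine ih hK (fun σ hσ m hm => ?_) hF h0
      rcases List.mem_cons.1 hm with rfl | hm
      · rcases getD'_mem_or rules (0, 0) j with h1 | h1
        · intro z
          have := hr _ h1 _ (hA (wval ρ.γ u) σ (hK hσ)) (fun x hx => by
            have h2 := hF σ hσ ((wval ρ.γ u)⁻¹ • x) (E.ms_sub h (E.mem_ms_pullW.2 (by simpa using hx)))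
            show wval ρ.γ u • σ ((wval ρ.γ u)⁻¹ • x) = x
            rw [h2, smul_inv_smul]) (wval ρ.γ u • z)
          rw [E.mem_ms_pullW, E.mem_ms_pullW, ← this]
          show _ ↔ wval ρ.γ u • σ ((wval ρ.γ u)⁻¹ • wval ρ.γ u • z) ∈ _
          rw [inv_smul_smul]
        · intro z
          rw [h1, E.mem_ms_pullW, E.mem_ms_pullW, E.ms_zero]; simp
      · exact hms σ hσ m hm

/-- final test: the masks separate all points -/
def finSep (N : ℕ) (ms : List ℕ) (_ : ℕ) : Bool := sep ms (ones N)

theorem Enc.finSep_spec (A : Subgroup (Equiv.Perm X)) (ms : List ℕ) (F : ℕ) (h : finSep N ms F = true)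
    (σ : Equiv.Perm X) (_ : σ ∈ A) (hm : ∀ m ∈ ms, E.Pres σ m) (_ : E.Fixes σ F) : σ = 1 := by
  ext z
  refine E.inj (sep_spec h ?_ ?_ fun m hm' => (hm m hm').testBit z) <;>
    simp [testBit_ones, E.lt]

theorem conj_mem_GAut (a0 b0 : X) (g : R) (σ : Equiv.Perm X) (h : σ ∈ GAut R a0 b0) :
    toPerm g * σ * (toPerm g)⁻¹ ∈ GAut R a0 b0 :=
  mul_mem (mul_mem (toPerm_mem_GAut a0 b0 g) h) (inv_mem (toPerm_mem_GAut a0 b0 g))

/-- the basic rule: an automorphism fixing `a0` preserves the neighbourhood of `a0` -/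
theorem Enc.rule_nb {a0 b0 : X} {D : ℕ} (hD : orbit (stabilizer R a0) b0 = E.ms D)
    (σ : Equiv.Perm X) (hσ : σ ∈ GAut R a0 b0) (h : E.Fixes σ (sing (E.pt a0))) : E.Pres σ D := by
  intro z
  rw [← hD, ← adj_base_iff, ← adj_base_iff, ← hσ a0 z, h a0 (E.mem_ms_sing.2 rfl)]

end run

/-! ### `p`-groups -/

/-- each word has `p`-power order and normalises the group generated by the later words:
`C` lists, for each word `w` of the chain and each later word `v`, a product `c` of later words with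
`w v = c w` (as group elements) -/
def pcRels (q : ℕ) (gs : List (List ℕ)) : List (List (List ℕ)) → List (List ℕ × List ℕ) :=
  @List.rec (List ℕ) (fun _ => List (List (List ℕ)) → List (List ℕ × List ℕ)) (fun _ => [])
    (fun w tl ih C => (pw w q, []) ::
      appL (mapL (fun j => (appL (getD' tl [] j) w, appL w (flat tl (getD' (getD' C [] 0) [] j))))
        (List.range (lenL tl))) (ih (dropL 1 C))) gs

theorem isPGroup_gen {R : Type*} [Group R] [Finite R] {γ : ℕ → R} {p n : ℕ} (gs : List (List ℕ))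
    (C : List (List (List ℕ))) (h : ∀ e ∈ pcRels (p ^ n) gs C, wval γ e.1 = wval γ e.2) :
    IsPGroup p (gen γ gs) := by
  induction gs generalizing C with
  | nil => rw [gen_nil]; exact IsPGroup.of_bot
  | cons w tl ih =>
    have e : pcRels (p ^ n) (w :: tl) C = (pw w (p ^ n), []) ::
      appL (mapL (fun j => (appL (getD' tl [] j) w, appL w (flat tl (getD' (getD' C [] 0) [] j))))
        (List.range (lenL tl))) (pcRels (p ^ n) tl (dropL 1 C)) := rfl
    rw [e] at h
    simp only [appL_eq, mapL_eq, lenL_eq, List.mem_cons, List.mem_append, List.mem_map,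
      List.mem_range] at h
    have h1 : wval γ w ^ p ^ n = 1 := by rw [← wval_pw]; exact h _ (Or.inl rfl)
    have h2 := ih _ fun e he => h e (Or.inr (Or.inr he))
    have h3 : gen γ (w :: tl) = Subgroup.zpowers (wval γ w) ⊔ gen γ tl := by
      apply le_antisymm
      · rw [gen_le]
        intro v hv
        rcases List.mem_cons.1 hv with rfl | hv
        · exact Subgroup.mem_sup_left (Subgroup.mem_zpowers _)
        · exact Subgroup.mem_sup_right (wval_mem_gen γ hv)
      · refine sup_le (Subgroup.zpowers_le.2 (wval_mem_gen γ List.mem_cons_self)) ?_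
        rw [gen_le]
        exact fun v hv => wval_mem_gen γ (List.mem_cons_of_mem _ hv)
    have hcol : ∀ c, colW γ tl c ∈ gen γ tl := fun c => by
      rcases getD'_mem_or tl [] c with h4 | h4
      · exact wval_mem_gen γ h4
      · rw [colW, h4]; exact one_mem _
    rw [h3]
    refine IsPGroup.to_sup_of_normal_right' ?_ h2 ?_
    · rintro ⟨_, i, rfl⟩
      refine ⟨n, Subtype.ext ?_⟩
      show (wval γ w ^ i) ^ p ^ n = 1
      rw [← zpow_natCast, ← zpow_mul, mul_comm, zpow_mul, zpow_natCast, h1, one_zpow]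
    · rw [Subgroup.zpowers_le]
      apply Subgroup.mem_normalizer_fintype
      intro x hx
      have : gen γ tl ≤ (gen γ tl).comap (MulAut.conj (wval γ w)).toMonoidHom := by
        rw [gen_le]
        intro v hv
        obtain ⟨j, hj, rfl⟩ := List.getElem_of_mem hv
        have h5 := h _ (Or.inr (Or.inl ⟨j, hj, rfl⟩))
        simp only [wval_append, wval_flat] at h5
        rw [getD'_eq, List.getD_eq_getElem _ _ hj] at h5
        show wval γ w * wval γ tl[j] * (wval γ w)⁻¹ ∈ gen γ tl
        rw [h5, mul_inv_cancel_right]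
        exact wval_mem _ fun c _ => hcol c
      exact this hx

end

end CL.Rk3
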