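import Cfsg.Agent.Base
import Cfsg.Agent.Rk3.Comp

/-!
# Rank three recognition: from kernel checks to the hypotheses of the comparison theorems
-/

set_option autoImplicit false

namespace CL.Rk3
open CL.CGT MulAction

noncomputable section

section img
variable {G Ω R X : Type*} [Group G] [MulAction G Ω] [Group R] [MulAction R X] {a : Ω} {a0 : X}

/-- the image under `θ` of the stabiliser of `a` and `b` -/
def img (θ : stabilizer G a ≃* stabilizer R a0) (b : Ω) : Subgroup R :=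
  (stabilizer (stabilizer G a) b).map ((stabilizer R a0).subtype.comp θ.toMonoidHom)

variable {θ : stabilizer G a ≃* stabilizer R a0}

theorem mem_img {b : Ω} {g : R} :
    g ∈ img θ b ↔ ∃ h : stabilizer G a, h • b = b ∧ (θ h : R) = g := Iff.rfl

theorem img_le (b : Ω) : img θ b ≤ stabilizer R a0 := by
  rintro _ ⟨h, -, rfl⟩; exact (θ h).2

theorem card_img (b : Ω) :
    (orbit (stabilizer G a) b).ncard * Nat.card (img θ b) = Nat.card (stabilizer R a0) := by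
  rw [img, Subgroup.card_map_of_injective (Subtype.val_injective.comp θ.injective), ncard_orbit_mul,
    Nat.card_congr θ.toEquiv]

theorem mem_orbit_img_smul (h : stabilizer G a) (b : Ω) (x z : X) :
    (θ h : R) • z ∈ orbit (img θ (h • b)) ((θ h : R) • x) ↔ z ∈ orbit (img θ b) x := by
  constructor
  · rintro ⟨⟨_, u, hu, rfl⟩, e⟩
    refine ⟨⟨θ (h⁻¹ * u * h), h⁻¹ * u * h, ?_, rfl⟩, ?_⟩
    · show (h⁻¹ * u * h) • b = b
      rw [mul_smul, mul_smul, show u • h • b = h • b from hu, inv_smul_smul]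
    · change (θ u : R) • (θ h : R) • x = (θ h : R) • z at e
      show (θ (h⁻¹ * u * h) : R) • x = z
      simp only [map_mul, map_inv, Subgroup.coe_mul, Subgroup.coe_inv, mul_smul]
      rw [e, inv_smul_smul]
  · rintro ⟨⟨_, u, hu, rfl⟩, e⟩
    refine ⟨⟨θ (h * u * h⁻¹), h * u * h⁻¹, ?_, rfl⟩, ?_⟩
    · show (h * u * h⁻¹) • h • b = h • b
      rw [mul_smul, mul_smul, inv_smul_smul, show u • b = b from hu]
    · change (θ u : R) • x = z at e
      show (θ (h * u * h⁻¹) : R) • (θ h : R) • x = (θ h : R) • z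
      simp only [map_mul, map_inv, Subgroup.coe_mul, Subgroup.coe_inv, mul_smul]
      rw [inv_smul_smul, e]

end img

section pgrp
variable {G Ω : Type*} [Group G] [MulAction G Ω]

theorem ncard_modEq_fix {p : ℕ} [Fact p.Prime] {K : Subgroup G} (hK : IsPGroup p K) {T : Set Ω}
    (hf : T.Finite) (hinv : ∀ g ∈ K, ∀ x ∈ T, g • x ∈ T) :
    T.ncard ≡ {x | x ∈ T ∧ ∀ g ∈ K, g • x = x}.ncard [MOD p] := by
  let S : SubMulAction K Ω := ⟨T, fun g x hx => hinv g g.2 x hx⟩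
  have : Finite S := hf
  have h1 := hK.card_modEq_card_fixedPoints S
  have h2 : Nat.card (fixedPoints K S) = {x | x ∈ T ∧ ∀ g ∈ K, g • x = x}.ncard := by
    rw [← Nat.card_coe_set_eq]
    refine Nat.card_congr ⟨fun x => ⟨x.1.1, x.1.2, fun g hg => congrArg Subtype.val (x.2 ⟨g, hg⟩)⟩,
      fun x => ⟨⟨x.1, x.2.1⟩, fun g => Subtype.ext (x.2.2 g.1 g.2)⟩, fun _ => rfl, fun _ => rfl⟩
  rw [h2] at h1
  exact h1

theorem exists_fix_of_not_dvd {p : ℕ} [Fact p.Prime] {K : Subgroup G} (hK : IsPGroup p K) {T : Set Ω}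
    (hf : T.Finite) (hinv : ∀ g ∈ K, ∀ x ∈ T, g • x ∈ T) (hp : ¬ p ∣ T.ncard) :
    ∃ x ∈ T, ∀ g ∈ K, g • x = x := by
  have h := ncard_modEq_fix hK hf hinv
  by_contra hc
  have : {x | x ∈ T ∧ ∀ g ∈ K, g • x = x} = ∅ := Set.eq_empty_of_forall_notMem fun x hx => hc ⟨x, hx⟩
  rw [this, Set.ncard_empty] at h
  exact hp (Nat.modEq_zero_iff_dvd.1 h)

/-- the orbital graph is regular on an orbit of a subgroup -/
theorem orbit_regular (P : Subgroup G) (a b x0 : Ω) {x : Ω} (hx : x ∈ orbit P x0) :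
    (orbit P x0 ∩ {z | Adj G a b x z}).ncard = (orbit P x0 ∩ {z | Adj G a b x0 z}).ncard := by
  obtain ⟨g, rfl⟩ := hx
  refine ncard_eq_of_smul (g : G) fun z => and_congr ?_ (adj_smul_iff (g : G))
  refine ⟨fun h => ?_, fun h => mapsTo_smul_orbit g x0 h⟩
  have : g⁻¹ • (g : G) • z ∈ orbit P x0 := mapsTo_smul_orbit g⁻¹ x0 h
  rwa [show g⁻¹ • (g : G) • z = z from inv_smul_smul g z] at this

end pgrp

section place
variable {G Ω R X : Type*} [Group G] [MulAction G Ω] [Group R] [MulAction R X] {a : Ω} {a0 : X}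

/-- the subgroup of `G` corresponding to a subgroup `F` of the stabiliser of `a0` -/
def coimg (θ : stabilizer G a ≃* stabilizer R a0) (F : Subgroup R) : Subgroup G :=
  (F.comap ((stabilizer R a0).subtype.comp θ.toMonoidHom)).map (stabilizer G a).subtype

theorem mem_coimg {θ : stabilizer G a ≃* stabilizer R a0} {F : Subgroup R} {g : G} :
    g ∈ coimg θ F ↔ ∃ h : stabilizer G a, (θ h : R) ∈ F ∧ (h : G) = g := Iff.rfl

theorem isPGroup_coimg (θ : stabilizer G a ≃* stabilizer R a0) {p : ℕ} {F : Subgroup R}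
    (hF : IsPGroup p F) : IsPGroup p (coimg θ F) :=
  (hF.comap_of_injective _ (Subtype.val_injective.comp θ.injective)).map _

theorem le_img_iff {θ : stabilizer G a ≃* stabilizer R a0} {F : Subgroup R}
    (hle : F ≤ stabilizer R a0) {b : Ω} : F ≤ img θ b ↔ ∀ g ∈ coimg θ F, g • b = b := by
  constructor
  · rintro h _ ⟨u, hu, rfl⟩
    obtain ⟨v, hv, e⟩ := h hu
    rw [← θ.injective (Subtype.ext e)]; exact hv
  · intro h g hg
    refine ⟨θ.symm ⟨g, hle hg⟩, h _ ⟨θ.symm ⟨g, hle hg⟩, ?_, rfl⟩, by simp⟩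
    simpa using hg

/-- a `p`-subgroup lies in the image of a two-point stabiliser of index prime to `p` -/
theorem exists_le_img [Finite Ω] (θ : stabilizer G a ≃* stabilizer R a0) {p : ℕ} [Fact p.Prime]
    {F : Subgroup R} (hF : IsPGroup p F) (hle : F ≤ stabilizer R a0) {b : Ω}
    (hp : ¬ p ∣ (orbit (stabilizer G a) b).ncard) :
    ∃ b' ∈ orbit (stabilizer G a) b, F ≤ img θ b' := by
  obtain ⟨x, hx, h⟩ := exists_fix_of_not_dvd (isPGroup_coimg θ hF) (Set.toFinite _)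
    (by rintro _ ⟨u, -, rfl⟩ x hx; exact smul_mem_orbit_stab u.2 hx) hp
  exact ⟨x, hx, (le_img_iff hle).2 h⟩

end place

/-- union of the selected masks -/
def unionL (c : ℕ → ℕ) (I : List ℕ) : ℕ :=
  @List.rec ℕ (fun _ => ℕ) 0 (fun i _ ih => Nat.lor (c i) ih) I

/-- points moved by one of the words, detected by the masks `Ps` -/
def mvd (ns : List Net) (gens : List (List ℕ)) (Ps : List ℕ) : ℕ :=
  @List.rec (List ℕ) (fun _ => ℕ) 0 (fun w _ ih => Nat.lor ih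
    (@List.rec ℕ (fun _ => ℕ) 0 (fun P _ ih' => Nat.lor ih' (Nat.xor (pullW ns w P) P)) Ps)) gens

/-- intersection of `Y` with the neighbourhoods given by the words -/
def interW (ns : List Net) (D Y : ℕ) (U : List (ℕ × List ℕ)) : ℕ :=
  @List.rec (ℕ × List ℕ) (fun _ => ℕ) Y (fun t _ ih => Nat.land ih (pullW ns t.2 D)) U

section enc
variable {R : Type*} [Group R] {X : Type*} [MulAction R X] {ρ : Rep R} {N : ℕ} (E : Enc X ρ N)

theorem Enc.ms_unionL (c : ℕ → ℕ) (I : List ℕ) :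
    {x | ∃ i ∈ I, x ∈ E.ms (c i)} = E.ms (unionL c I) := by
  induction I with
  | nil => show _ = E.ms 0; simp [E.ms_zero]
  | cons i l ih =>
    show _ = E.ms (Nat.lor (c i) (unionL c l))
    rw [E.ms_lor, ← ih]
    ext x; simp

theorem Enc.not_mem_mvd {gens : List (List ℕ)} (Ps : List ℕ) {x : X}
    (hx : ∀ g ∈ gen ρ.γ gens, g • x = x) : x ∉ E.ms (mvd ρ.ns gens Ps) := by
  have hx' : ∀ w ∈ gens, wval ρ.γ w • x = x := fun w hw => hx _ (wval_mem_gen _ hw)
  clear hx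
  induction gens with
  | nil => show x ∉ E.ms 0; simp [E.ms_zero]
  | cons w l ih =>
    show x ∉ E.ms (Nat.lor (mvd ρ.ns l Ps) _)
    rw [E.ms_lor]
    rintro (h | h)
    · exact ih (fun w hw => hx' w (List.mem_cons_of_mem _ hw)) h
    · have h1 := hx' w List.mem_cons_self
      clear ih hx'
      induction Ps with
      | nil => change x ∈ E.ms 0 at h; simp [E.ms_zero] at h
      | cons P Ps ih' =>
        change x ∈ E.ms (Nat.lor _ (Nat.xor (pullW ρ.ns w P) P)) at h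
        rw [E.ms_lor] at h
        rcases h with h | h
        · exact ih' h
        · rw [E.mem_ms, testBit_xor', testBit_pullW ρ.ok, ← E.pt_wval, h1] at h
          simp at h

theorem Enc.fix_subset {gens : List (List ℕ)} {Ps : List ℕ} {Y Q : ℕ}
    (h : sub Y (Nat.lor (mvd ρ.ns gens Ps) Q) = true) {x : X} (hY : x ∈ E.ms Y)
    (hx : ∀ g ∈ gen ρ.γ gens, g • x = x) : x ∈ E.ms Q := by
  have := E.ms_sub h hY
  rw [E.ms_lor] at this
  exact this.resolve_left (E.not_mem_mvd Ps hx)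

theorem Enc.orbit_eq {gens : List (List ℕ)} {steps : List ℕ} {S : ℕ} {x : X}
    (h : orbIs ρ.ns gens (E.pt x) steps S = true) : orbit (gen ρ.γ gens) x = E.ms S := by
  ext y
  have := ρ.orb_eq_of_orbIs h
  rw [E.mem_ms, ← mem_bset, ← this]
  constructor
  · rintro ⟨g, rfl⟩; exact ⟨g, g.2, (E.smul _ _).symm⟩
  · rintro ⟨g, hg, e⟩; exact ⟨⟨g, hg⟩, E.inj (by rw [← e]; exact E.smul _ _)⟩

theorem Enc.trans_of_grow {gens : List (List ℕ)} {steps : List ℕ} {S : ℕ} {x0 : X}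
    (h : sub S (grow ρ.ns gens steps (sing (E.pt x0))) = true) {K : Subgroup R}
    (hK : gen ρ.γ gens ≤ K) {x y : X} (hx : x ∈ E.ms S) (hy : y ∈ E.ms S) : ∃ g ∈ K, g • x = y := by
  obtain ⟨u, hu, rfl⟩ := E.exists_of_mem_grow hK (E.ms_sub h hx)
  obtain ⟨v, hv, rfl⟩ := E.exists_of_mem_grow hK (E.ms_sub h hy)
  exact ⟨v * u⁻¹, mul_mem hv (inv_mem hu), by rw [mul_smul, inv_smul_smul]⟩

variable {a0 b0 c0 : X} {k l D : ℕ}

theorem Enc.U1_of [Finite R] (hR : R3 R a0 b0 c0 k l) (hn : ¬ (k + 1) ∣ 1 + k + l)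
    (hD : orbit (stabilizer R a0) b0 = E.ms D) {gens : List (List ℕ)} {L : List (ℕ × List ℕ)}
    {k' e r A : ℕ} {cs : ℕ → ℕ} {I0 : List ℕ}
    (hc : cellsOK ρ.ns gens L k' e N r cs (Nat.xor D (sing (E.pt b0))) = true)
    (hgo : go (fun I _ => beqL I I0) cs A r [] 0 = true)
    (ha : fixW ρ.ns gens (E.pt a0) = true) (hb : fixW ρ.ns gens (E.pt b0) = true)
    (hA : allLt (k - 1) (fun s => cnd (Nat.beq (Nat.mod (Nat.mul k (Nat.sub (Nat.sub k 1) s)) l) 0)
      (tb A s) true) = true) : U1 R a0 b0 k l := by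
  have key : ∀ T : Set X, T ⊆ orbit (stabilizer R a0) b0 → b0 ∉ T →
      (∀ g : R, g • a0 = a0 → g • b0 = b0 → ∀ x ∈ T, g • x ∈ T) → T.ncard + 1 < k →
      l ∣ k * (k - 1 - T.ncard) → T = {x | ∃ i ∈ I0, x ∈ E.ms (cm ρ.ns gens L i)} := by
    intro T h1 h2 h3 h4 h5
    refine E.search_eq hc hgo (K := stabilizer R a0 ⊓ stabilizer R b0)
      (le_inf (E.gen_le_stabilizer ha) (E.gen_le_stabilizer hb)) (fun x hx => ?_)
      (fun g hg => h3 g hg.1 hg.2) ?_
    · have h6 := h1 hx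
      rw [hD, E.mem_ms] at h6
      have h7 : E.pt x ≠ E.pt b0 := fun e => h2 (E.inj e ▸ hx)
      simp [E.mem_ms, testBit_xor', testBit_sing, h6, h7]
    · have := allLt_spec hA T.ncard (by omega)
      have e : Nat.beq (Nat.mod (Nat.mul k (Nat.sub (Nat.sub k 1) T.ncard)) l) 0 = true :=
        beq_iff.2 (Nat.mod_eq_zero_of_dvd h5)
      rwa [e, cnd_true, tb_eq] at this
  intro T h1 h2 h3 h4 h5
  have e1 := hR.cnt_b
  have e2 := hR.cnt_mul
  have e3 := hR.cnt_b_c_ne_zero hn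
  rw [key T h1 h2 h3 h4 h5]
  refine (key _ (fun x hx => hx.1) (fun h => hR.irrefl _ h.2) (fun g hg hg' x hx => ?_) ?_ ?_).symm
  · exact ⟨smul_mem_orbit_stab hg hx.1, by simpa [hg'] using hx.2.smul g⟩
  · change R3.cnt R a0 b0 b0 b0 + 1 < k
    omega
  · change l ∣ k * (k - 1 - R3.cnt R a0 b0 b0 b0)
    rw [show k - 1 - R3.cnt R a0 b0 b0 b0 = R3.cnt R a0 b0 b0 c0 by omega, e2]
    exact dvd_mul_right _ _

theorem Enc.cnt_eq (hD : orbit (stabilizer R a0) b0 = E.ms D) {x y0 : X} {Y k' e : ℕ}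
    (hY : orbit (stabilizer R a0) y0 = E.ms Y) {u : List ℕ} (hu : walk ρ.ns u (E.pt x) = E.pt a0)
    (hk : popOK k' e (ones N) = true) :
    R3.cnt R a0 b0 x y0 = pc k' e N (Nat.land Y (pullW ρ.ns u D)) := by
  rw [← E.ncard_ms hk, E.ms_land, R3.cnt, hY]
  congr 1; ext z
  exact and_congr_right fun _ => E.adj_iff_mem hD hu z

theorem Enc.U2_of [Finite R] (hR : R3 R a0 b0 c0 k l) {y0 : X} {Y : ℕ}
    (hY : orbit (stabilizer R a0) y0 = E.ms Y) {gens : List (List ℕ)} {L : List (ℕ × List ℕ)}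
    {k' e r s : ℕ} {cs : ℕ → ℕ} {I0 : List ℕ} (hs : R3.cnt R a0 b0 c0 y0 = s)
    (hc : cellsOK ρ.ns gens L k' e N r cs (Nat.xor Y (Nat.land Y (sing (E.pt c0)))) = true)
    (hgo : go (fun I _ => beqL I I0) cs (sing s) r [] 0 = true)
    (ha : fixW ρ.ns gens (E.pt a0) = true) (hb : fixW ρ.ns gens (E.pt c0) = true) :
    U2 R a0 b0 c0 y0 := by
  have key : ∀ T : Set X, T ⊆ orbit (stabilizer R a0) y0 → c0 ∉ T →
      (∀ g : R, g • a0 = a0 → g • c0 = c0 → ∀ x ∈ T, g • x ∈ T) →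
      T.ncard = R3.cnt R a0 b0 c0 y0 → T = {x | ∃ i ∈ I0, x ∈ E.ms (cm ρ.ns gens L i)} := by
    intro T h1 h2 h3 h4
    refine E.search_eq hc hgo (K := stabilizer R a0 ⊓ stabilizer R c0)
      (le_inf (E.gen_le_stabilizer ha) (E.gen_le_stabilizer hb)) (fun x hx => ?_)
      (fun g hg => h3 g hg.1 hg.2) ?_
    · have h6 := h1 hx
      rw [hY, E.mem_ms] at h6
      have h7 : E.pt x ≠ E.pt c0 := fun e => h2 (E.inj e ▸ hx)
      simp [E.mem_ms, testBit_xor', testBit_land, testBit_sing, h6, h7]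
    · rw [h4, hs, testBit_sing]; simp
  intro T h1 h2 h3 h4
  rw [key T h1 h2 h3 h4]
  refine (key _ (fun x hx => hx.1) (fun h => hR.irrefl _ h.2) (fun g hg hg' x hx => ?_) rfl).symm
  exact ⟨smul_mem_orbit_stab hg hx.1, by simpa [hg'] using hx.2.smul g⟩

/-- the two-point stabiliser is transitive on the non-neighbours of `b0` in `Δ` -/
theorem Enc.S3_of (hD : orbit (stabilizer R a0) b0 = E.ms D) {gens : List (List ℕ)} {u steps : List ℕ}
    {p0 : ℕ} (hp : p0 < N) (hu : walk ρ.ns u (E.pt b0) = E.pt a0)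
    (h : sub D (Nat.lor (Nat.lor (sing (E.pt b0)) (pullW ρ.ns u D))
      (grow ρ.ns gens steps (sing p0))) = true)
    (ha : fixW ρ.ns gens (E.pt a0) = true) (hb : fixW ρ.ns gens (E.pt b0) = true) :
    ∀ x ∈ orbit (stabilizer R a0) b0, ∀ y ∈ orbit (stabilizer R a0) b0, x ≠ b0 → y ≠ b0 →
      ¬ Adj R a0 b0 b0 x → ¬ Adj R a0 b0 b0 y → ∃ g : R, g • a0 = a0 ∧ g • b0 = b0 ∧ g • x = y := by
  obtain ⟨x0, rfl⟩ := E.surj p0 hp
  have key : ∀ x ∈ orbit (stabilizer R a0) b0, x ≠ b0 → ¬ Adj R a0 b0 b0 x →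
      x ∈ E.ms (grow ρ.ns gens steps (sing (E.pt x0))) := by
    intro x hx h1 h2
    have := E.ms_sub h (hD ▸ hx)
    rw [E.ms_lor, E.ms_lor] at this
    rcases this with (h3 | h3) | h3
    · exact absurd (E.inj (E.mem_ms_sing.1 h3)) h1
    · exact absurd ((E.adj_iff_mem hD hu x).2 h3) h2
    · exact h3
  intro x hx y hy h1 h2 h3 h4
  obtain ⟨g, hg, e⟩ := E.trans_of_grow (S := grow ρ.ns gens steps (sing (E.pt x0))) (x0 := x0)
    (steps := steps) (beq_iff.2 (Nat.and_self _)) (K := stabilizer R a0 ⊓ stabilizer R b0)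
    (le_inf (E.gen_le_stabilizer ha) (E.gen_le_stabilizer hb)) (key x hx h1 h3) (key y hy h2 h4)
  exact ⟨g, hg.1, hg.2, e⟩

/-- `M` consists of neighbours of `c0`, and `c0` is the only point of `Y` adjacent to the points
listed in `U` -/
def pinOK (ns : List Net) (N pa pc0 D Y M : ℕ) (u : List ℕ) (U : List (ℕ × List ℕ)) : Bool :=
  band (band (Nat.beq (walk ns u pc0) pa) (sub M (pullW ns u D)))
    (band (allL U fun t => band (band (Nat.ble (Nat.succ t.1) N) (tb M t.1)) (Nat.beq (walk ns t.2 t.1) pa))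
      (sub (interW ns D Y U) (sing pc0)))

theorem Enc.smul_eq_of_pinOK [Finite R] (hR : R3 R a0 b0 c0 k l)
    (hD : orbit (stabilizer R a0) b0 = E.ms D) {Y M : ℕ} (hY : orbit (stabilizer R a0) c0 = E.ms Y)
    {u : List ℕ} {U : List (ℕ × List ℕ)}
    (h : pinOK ρ.ns N (E.pt a0) (E.pt c0) D Y M u U = true) {g : R} (hg : g • a0 = a0)
    (hM : ∀ x ∈ E.ms M, g⁻¹ • x ∈ E.ms M) : g • c0 = c0 := by
  simp only [pinOK, band_eq_true, beq_iff] at h
  obtain ⟨⟨h1, h2⟩, h3, h4⟩ := h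
  have h5 := fun t ht => by simpa only [band_eq_true, blt_iff, tb_eq, beq_iff] using allL_spec h3 t ht
  refine E.inj (E.mem_ms_sing.1 (E.ms_sub h4 ?_))
  clear h3 h4
  induction U with
  | nil => exact hY ▸ smul_mem_orbit_stab hg (mem_orbit_self _)
  | cons t U ih =>
    show _ ∈ E.ms (Nat.land (interW ρ.ns D Y U) (pullW ρ.ns t.2 D))
    rw [E.ms_land]
    refine ⟨ih fun t ht => h5 t (List.mem_cons_of_mem _ ht), ?_⟩
    obtain ⟨⟨h6, h7⟩, h8⟩ := h5 t List.mem_cons_self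
    obtain ⟨x, hx⟩ := E.surj _ h6
    rw [← hx] at h7 h8
    rw [← E.adj_iff_mem hD h8]
    have := ((E.adj_iff_mem hD h1 _).2 (E.ms_sub h2 (hM x h7))).smul g
    rw [smul_inv_smul] at this
    exact hR.symm this

/-- the points of `Q` are listed in `U` and are mutually adjacent -/
def cliqueOK (ns : List Net) (pa D Q : ℕ) (U : List (ℕ × List ℕ)) : Bool :=
  band (allL U fun t => band (Nat.beq (walk ns t.2 t.1) pa) (sub Q (Nat.lor (sing t.1) (pullW ns t.2 D))))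
    (sub Q (unionL sing (mapL Prod.fst U)))

theorem Enc.adj_of_cliqueOK (hD : orbit (stabilizer R a0) b0 = E.ms D) {Q : ℕ}
    {U : List (ℕ × List ℕ)} (h : cliqueOK ρ.ns (E.pt a0) D Q U = true) {x y : X} (hx : x ∈ E.ms Q)
    (hy : y ∈ E.ms Q) (hne : x ≠ y) : Adj R a0 b0 x y := by
  simp only [cliqueOK, band_eq_true] at h
  have h1 := E.ms_sub h.2 hx
  rw [← E.ms_unionL, mapL_eq] at h1
  obtain ⟨_, hi, h2⟩ := h1
  obtain ⟨t, ht, rfl⟩ := List.mem_map.1 hi
  have h3 := allL_spec h.1 t ht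
  rw [band_eq_true, beq_iff, ← E.mem_ms_sing.1 h2] at h3
  have h4 := E.ms_sub h3.2 hy
  rw [E.ms_lor] at h4
  rcases h4 with h4 | h4
  · exact absurd (E.inj (E.mem_ms_sing.1 h4)).symm hne
  · exact (E.adj_iff_mem hD h3.1 y).2 h4

end enc

section final
variable {G Ω R X : Type*} [Group G] [MulAction G Ω] [Group R] [MulAction R X] [Finite G] [Finite R]
  {a b c : Ω} {a0 b0 c0 : X} {k l : ℕ}

/-- the recognition theorem once both suborbits are matched -/
theorem nonempty_mulEquiv_of_match [FaithfulSMul G Ω] [FaithfulSMul R X] [IsSimpleGroup R]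
    (hG : R3 G a b c k l) (hR : R3 R a0 b0 c0 k l) (hn : ¬ (k + 1) ∣ 1 + k + l)
    {θ : stabilizer G a ≃* stabilizer R a0} (hb : Match θ b b0) (hc : Match θ c c0)
    (h1 : U1 R a0 b0 k l) (h2 : U2 R a0 b0 c0 b0) (h3 : U2 R a0 b0 c0 c0) {m : ℕ}
    (hA : Nat.card (GAut R a0 b0) ≤ m * Nat.card R) (hm : ¬ Nat.card R ∣ m.factorial) :
    Nonempty (G ≃* R) := by
  have := hR.finite
  obtain ⟨φ, hφ⟩ := exists_graph_equiv hG hR hn hb hc h1 h2 h3
  exact nonempty_mulEquiv φ hφ (by rw [hG.card_eq, hR.card_eq, Nat.card_congr θ.toEquiv]) hA hm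

/-- the transported set of common neighbours as an orbit of `img θ c'` -/
theorem exists_mu_orbit (hG : R3 G a b c k l) (hR : R3 R a0 b0 c0 k l) (hn : ¬ (k + 1) ∣ 1 + k + l)
    {θ : stabilizer G a ≃* stabilizer R a0} (hb : Match θ b b0) (h1 : U1 R a0 b0 k l)
    (h3 : ∀ x ∈ orbit (stabilizer R a0) b0, ∀ y ∈ orbit (stabilizer R a0) b0, x ≠ b0 → y ≠ b0 →
      ¬ Adj R a0 b0 b0 x → ¬ Adj R a0 b0 b0 y → ∃ g : R, g • a0 = a0 ∧ g • b0 = b0 ∧ g • x = y)
    {c' : Ω} (hc' : c' ∈ orbit (stabilizer G a) c) :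
    ∃ x ∈ orbit (stabilizer R a0) b0, (orbit (img θ c') x).ncard = R3.cnt R a0 b0 c0 b0 := by
  obtain ⟨M, h4, h5, h6, h7⟩ := exists_mu hG hR hn hb h1 h3 hc'
  have e2 := hR.cnt_mul
  have e3 := hR.cnt_b_c_ne_zero hn
  have hne : M.Nonempty := by
    refine Set.nonempty_of_ncard_ne_zero ?_
    rw [h5]
    intro h0
    rw [h0, mul_zero, mul_eq_zero] at e2
    have := hR.hk
    omega
  obtain ⟨x, hx⟩ := hne
  refine ⟨x, h4 hx, ?_⟩
  rw [← h5]
  congr 1
  ext y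
  constructor
  · rintro ⟨⟨_, h, hh, rfl⟩, rfl⟩; exact h6 h hh x hx
  · intro hy
    obtain ⟨h, hh, e⟩ := h7 x hx y hy
    exact ⟨⟨θ h, h, hh, rfl⟩, e⟩

end final

end

end CL.Rk3
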