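import Cfsg.Agent.Base
import Cfsg.Agent.Rk3.SuzData
import Cfsg.Agent.Chev.TwLinAut

/-!
# Recognition of the sporadic Suzuki group from its rank three action on 1782 points
-/

set_option autoImplicit false

namespace CL.Rk3
open CL.CGT MulAction

/-- Chevalley groups over fields with the same number of elements are isomorphic -/
theorem nonempty_group_equiv (D : Cfsg.Lie.ChevalleyDatum) {K K' : Type*} [Field K] [Fintype K]
    [Field K'] [Fintype K'] (h : Fintype.card K = Fintype.card K') :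
    Nonempty (D.group K ≃* D.group K') := by
  let f := FiniteField.ringEquivOfCardEq h
  let Ψ : Matrix D.Idx D.Idx K ≃* Matrix D.Idx D.Idx K' := (f.mapMatrix : Matrix D.Idx D.Idx K ≃+* _)
  have key : ∀ r t, Ψ (D.xMat K r t) = D.xMat K' r (f t) := fun r t =>
    CL.Tw.xMat_map D (f : K →+* K') r t
  let Ψ' : GL D.Idx K ≃* GL D.Idx K' := Units.mapEquiv Ψ
  have hΨ : ∀ g : GL D.Idx K, ((Ψ' g : GL D.Idx K') : Matrix D.Idx D.Idx K') =
    Ψ (g : Matrix D.Idx D.Idx K) := fun g => rfl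
  have hmap : (D.group K).map (Ψ' : GL D.Idx K →* GL D.Idx K') = D.group K' := by
    unfold Cfsg.Lie.ChevalleyDatum.group
    rw [MonoidHom.map_closure]
    congr 1
    ext g
    constructor
    · rintro ⟨g0, ⟨r, t, h⟩, rfl⟩
      exact ⟨r, f t, by rw [← key, ← h]; exact hΨ g0⟩
    · rintro ⟨r, t, h⟩
      refine ⟨Ψ'.symm g, ⟨r, f.symm t, ?_⟩, by simp⟩
      apply Ψ.injective
      rw [← hΨ, key, RingEquiv.apply_symm_apply, ← h]
      simp
  exact ⟨(Ψ'.subgroupMap (D.group K)).trans (MulEquiv.subgroupCongr hmap)⟩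

namespace Suz
open CL.CGT.Suz

noncomputable section

abbrev R : Type := Cfsg.Spor.Suz
abbrev H : Subgroup R := gen T1.ρ.γ T1.subs
def X : Type := R ⧸ H

instance : MulAction R X := inferInstanceAs (MulAction R (R ⧸ H))
instance : IsPretransitive R X := inferInstanceAs (IsPretransitive R (R ⧸ H))

instance : Finite R := T1.card.1

def E0 : Enc X T1.ρ 1782 := cosetEnc T1.isCoset

def E : Enc X ρ 1782 := ⟨E0.pt, E0.inj, E0.lt, E0.surj, E0.smul⟩

def a0 : X := ((1 : R) : R ⧸ H)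
def b0 : X := (E.surj 995 (by norm_num)).choose
def c0 : X := (E.surj 1 (by norm_num)).choose

theorem pa : E.pt a0 = 0 := by
  show T1.ρ.φ 1 0 = 0
  simp
theorem pb : E.pt b0 = 995 := (E.surj 995 (by norm_num)).choose_spec
theorem pc0 : E.pt c0 = 1 := (E.surj 1 (by norm_num)).choose_spec

theorem stab_a0 : stabilizer R a0 = H := stabilizer_quotient H

theorem faithful : ρ.Faithful 1782 := T1.card.2.2

instance : FaithfulSMul R X := ⟨fun {g h} e => by
  rw [← inv_mul_eq_one]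
  refine faithful _ fun p hp => ?_
  obtain ⟨x, rfl⟩ := E.surj p hp
  rw [← E.smul, mul_smul, ← e, inv_smul_smul]⟩

theorem hD : orbit (stabilizer R a0) b0 = E.ms D := by
  rw [stab_a0]
  exact E0.orbit_eq (x := b0) (by rw [show E0.pt b0 = 995 from pb]; exact orbD)

theorem hY : orbit (stabilizer R a0) c0 = E.ms Y := by
  rw [stab_a0]
  exact E0.orbit_eq (x := c0) (by rw [show E0.pt c0 = 1 from pc0]; exact orbY)

theorem r3 : R3 R a0 b0 c0 416 1365 :=
  ⟨inferInstance, E.card, by rw [hD, E.ncard_ms pop, pcD], by rw [hY, E.ncard_ms pop, pcY],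
    by norm_num, by norm_num, by norm_num⟩

theorem card_H : Nat.card (stabilizer R a0) = 251596800 := by
  have := r3.card_eq
  rw [T1.card.2.1] at this
  omega

theorem hn : ¬ (416 + 1) ∣ 1 + 416 + 1365 := by norm_num

theorem u1 : U1 R a0 b0 416 1365 :=
  E.U1_of r3 hn hD (by rw [pb]; exact j_cells) j_go (by rw [pa]; exact j_fix0)
    (by rw [pb]; exact j_fix995) j_adm

theorem mu_eq : R3.cnt R a0 b0 c0 b0 = 96 := by
  rw [E.cnt_eq hD hD (u := uc) (by rw [pa, pc0]; exact uc_walk) pop, cnt_cb]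

theorem u2 : U2 R a0 b0 c0 b0 :=
  E.U2_of r3 hD mu_eq (by rw [pc0]; exact p_cells) p_go (by rw [pa]; exact p_fix0)
    (by rw [pc0]; exact p_fix1)

theorem u3 : U2 R a0 b0 c0 c0 :=
  E.U2_of r3 hY (s := 320)
    (by rw [E.cnt_eq hD hY (u := uc) (by rw [pa, pc0]; exact uc_walk) pop, cnt_cc])
    (by rw [pc0]; exact q_cells) q_go (by rw [pa]; exact p_fix0) (by rw [pc0]; exact p_fix1)

theorem aut_le : Nat.card (GAut R a0 b0) ≤ 2 * Nat.card R := by
  rw [T1.card.2.1, ← aut_run]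
  refine E.card_le_run pop (conj_mem_GAut a0 b0) (fun t ht σ hσ h => ?_) (E.finSep_spec _) steps le_rfl
    (fun _ _ m hm => by simp at hm) (fun _ _ z hz => by simp [E.ms_zero] at hz)
    (by rw [aut_run]; norm_num)
  rw [List.mem_singleton.1 ht] at h ⊢
  exact E.rule_nb hD σ hσ (by rw [pa]; exact h)

theorem pgroup {p n : ℕ} {gs : List (List ℕ)} {C : List (List (List ℕ))}
    (h : eqAll ρ.ns ρ.B 11 (pcRels (p ^ n) gs C) = true) : IsPGroup p (gen ρ.γ gs) :=
  isPGroup_gen gs C (faithful.wval_eq (wval_pm_eq_of_eqAll ρ.ok h))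

theorem le_stab {gs : List (List ℕ)} (h : fixW ρ.ns gs 0 = true) : gen ρ.γ gs ≤ stabilizer R a0 :=
  E.gen_le_stabilizer (by rw [pa]; exact h)

variable {G Ω : Type*} [Group G] [MulAction G Ω] [Finite G] {a b c : Ω}

theorem orbit_img_subset (θ : stabilizer G a ≃* stabilizer R a0) (y : Ω) {x : X}
    (hx : x ∈ orbit (stabilizer R a0) b0) : orbit (img θ y) x ⊆ E.ms D := by
  rintro _ ⟨g, rfl⟩
  rw [← hD]
  exact smul_mem_orbit_stab (img_le y g.2) hx

/-- the condition coming from an element of order seven -/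
theorem seven (hG : R3 G a b c 416 1365) (θ : stabilizer G a ≃* stabilizer R a0) :
    ∃ n ≤ 3, (orbit (img θ b) b0).ncard ≡ n [MOD 7] ∧
      (2 ≤ n → (orbit (img θ b) b0 ∩ {z | Adj R a0 b0 b0 z}).ncard ≠ 0) := by
  have := hG.finite
  have := E.finite
  have : Fact (Nat.Prime 7) := ⟨by norm_num⟩
  obtain ⟨_, ⟨h, rfl⟩, hle⟩ := exists_le_img θ (pgroup s_pc) (le_stab s_fix0) (b := b)
    (by rw [hG.hb]; norm_num)
  simp only at hle
  set T := orbit (img θ (h • b)) ((θ h : R) • b0) with hT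
  have hsub : T ⊆ E.ms D := orbit_img_subset θ _ (smul_mem_orbit_stab (θ h).2 (mem_orbit_self _))
  have h1 := ncard_modEq_fix (pgroup s_pc) T.toFinite
    (fun g hg x hx => mapsTo_smul_orbit (⟨g, hle hg⟩ : img θ (h • b)) _ hx)
  have h2 : {x | x ∈ T ∧ ∀ g ∈ gen ρ.γ sg, g • x = x} ⊆ E.ms Q := fun x hx =>
    E.fix_subset s_mvd (hsub hx.1) hx.2
  have h3 : T.ncard = (orbit (img θ b) b0).ncard :=
    ncard_eq_of_smul (θ h : R) fun z => mem_orbit_img_smul h b b0 z
  refine ⟨_, ?_, h3 ▸ h1, fun h4 => ?_⟩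
  · have := Set.ncard_le_ncard h2
    rwa [E.ncard_ms pop, pcQ] at this
  · obtain ⟨x, hx, y, hy, hxy⟩ := (Set.one_lt_ncard (Set.toFinite _)).1 h4
    have h5 := E.adj_of_cliqueOK hD (by rw [pa]; exact s_clique) (h2 hx) (h2 hy) hxy
    have h6 : (T ∩ {z | Adj R a0 b0 ((θ h : R) • b0) z}).ncard =
        (orbit (img θ b) b0 ∩ {z | Adj R a0 b0 b0 z}).ncard :=
      ncard_eq_of_smul (θ h : R) fun z =>
        and_congr (mem_orbit_img_smul h b b0 z) (adj_smul_iff (θ h : R))
    rw [← h6, hT, ← orbit_regular _ a0 b0 _ hx.1]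
    exact Set.ncard_ne_zero_of_mem ⟨hy.1, h5⟩

theorem arith : ∀ m ≤ 416, m ∣ 604800 → m % 5 = 1 → m % 7 ≤ 3 → m = 1 ∨ fA.testBit m = true := by
  decide +kernel

theorem stage1 (hG : R3 G a b c 416 1365) (θ : stabilizer G a ≃* stabilizer R a0) :
    ∃ b' ∈ orbit (stabilizer G a) b, Match θ b' b0 := by
  have := hG.finite
  have := E.finite
  have : Fact (Nat.Prime 5) := ⟨by norm_num⟩
  obtain ⟨b', hb', hle⟩ := exists_le_img θ (pgroup f_pc) (le_stab f_fix0) (b := b)
    (by rw [hG.hb]; norm_num)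
  have hG' := hG.change hb' (mem_orbit_self c)
  obtain ⟨n, hn3, hn7, hn2⟩ := seven hG' θ
  set T := orbit (img θ b') b0 with hT
  have hsub : T ⊆ E.ms D := orbit_img_subset θ _ (mem_orbit_self _)
  have hinv : ∀ g ∈ img θ b', ∀ x ∈ T, g • x ∈ T := fun g hg x hx =>
    mapsTo_smul_orbit (⟨g, hg⟩ : img θ b') _ hx
  have h1 := ncard_modEq_fix (pgroup f_pc) T.toFinite fun g hg => hinv g (hle hg)
  have h2 : {x | x ∈ T ∧ ∀ g ∈ gen ρ.γ fg, g • x = x} = {b0} := by
    ext x
    constructor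
    · intro hx
      have := E.fix_subset f_mvd (hsub hx.1) hx.2
      rw [← pb, E.mem_ms_sing] at this
      exact E.inj this
    · rintro rfl
      exact ⟨mem_orbit_self _, E.gen_le_stabilizer (by rw [pb]; exact f_fix995)⟩
  rw [h2, Set.ncard_singleton] at h1
  have h3 := card_img (θ := θ) b'
  rw [hG'.hb, card_H] at h3
  have h4 := ncard_orbit_mul (img θ b') b0
  rw [← hT] at h4
  have h5 : T.ncard ≤ 416 := by
    have := Set.ncard_le_ncard hsub
    rwa [E.ncard_ms pop, pcD] at this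
  have h6 : T.ncard = 1 := by
    refine (arith _ h5 ⟨_, by rw [h4]; omega⟩ h1 (by unfold Nat.ModEq at hn7; omega)).resolve_right
      fun hA => ?_
    obtain ⟨I, -, h7⟩ := E.search_reg hD (f := fun _ s d => band (Nat.beq s 16) (Nat.beq d 0)) f_cells
      (by rw [pa]; exact f_table) f_go hle hsub hinv hA
      ⟨b0, mem_orbit_self _⟩ fun x hx => orbit_regular _ a0 b0 b0 hx
    simp only [band_eq_true, beq_iff] at h7
    refine hn2 ?_ h7.2
    rw [h7.1] at hn7
    unfold Nat.ModEq at hn7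
    omega
  obtain ⟨b'', hb'', hm⟩ := exists_match θ (b := b') (mem_orbit_self b0) (hG'.hb.trans r3.hb.symm)
    fun h hh => by
      obtain ⟨y, hy⟩ := Set.ncard_eq_one.1 h6
      have e1 : b0 ∈ T := mem_orbit_self _
      have e2 := hinv _ ⟨h, hh, rfl⟩ _ e1
      rw [hy] at e1 e2
      exact e2.trans e1.symm
  exact ⟨b'', orbit_eq_iff.2 hb' ▸ hb'', hm⟩

theorem stage2 (hG : R3 G a b c 416 1365) {θ : stabilizer G a ≃* stabilizer R a0}
    (hb : Match θ b b0) : ∃ c' ∈ orbit (stabilizer G a) c, Match θ c' c0 := by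
  have := hG.finite
  obtain ⟨c', hc', hle⟩ := exists_le_img θ (pgroup t_pc) (le_stab t_fix0) (b := c)
    (by rw [hG.hc]; norm_num)
  obtain ⟨x, hx, h1⟩ := exists_mu_orbit hG r3 hn hb u1
    (E.S3_of hD (p0 := 81) (by norm_num) (by rw [pa, pb]; exact ub_walk) (by rw [pb]; exact j_s3)
      (by rw [pa]; exact j_fix0) (by rw [pb]; exact j_fix995)) hc'
  have hinv : ∀ g ∈ img θ c', ∀ y ∈ orbit (img θ c') x, g • y ∈ orbit (img θ c') x :=
    fun g hg y hy => mapsTo_smul_orbit (⟨g, hg⟩ : img θ c') _ hy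
  obtain ⟨I, h2, h3⟩ := E.search_reg hD (f := fun I _ _ => beqL I [0, 1, 2]) (A := sing 96) t_cells
    (by rw [pa]; exact t_table) t_go hle
    (orbit_img_subset θ c' hx) hinv (by rw [h1, mu_eq, testBit_sing]; simp) ⟨x, mem_orbit_self _⟩
    fun y hy => orbit_regular _ a0 b0 x hy
  rw [beqL_spec h3, E.ms_unionL] at h2
  obtain ⟨c'', hc'', hm⟩ := exists_match θ (b := c') (mem_orbit_self c0)
    ((hG.change (mem_orbit_self b) hc').hc.trans r3.hc.symm) fun h hh =>
      E.smul_eq_of_pinOK r3 hD hY (by rw [pa, pc0]; exact t_pin) (θ h).2 fun y hy => by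
        rw [← h2] at hy ⊢
        exact hinv _ (inv_mem ⟨h, hh, rfl⟩) y hy
  exact ⟨c'', orbit_eq_iff.2 hc' ▸ hc'', hm⟩

/-- recognition of `Suz` -/
theorem recognition [FaithfulSMul G Ω] (hG : R3 G a b c 416 1365) (e : stabilizer G a ≃* H) :
    Nonempty (G ≃* R) := by
  have := T1.simple
  let θ := e.trans (MulEquiv.subgroupCongr stab_a0.symm)
  obtain ⟨b', hb', hm⟩ := stage1 hG θ
  have hG' := hG.change hb' (mem_orbit_self c)
  obtain ⟨c', hc', hm'⟩ := stage2 hG' hm
  exact nonempty_mulEquiv_of_match (hG'.change (mem_orbit_self b') hc') r3 hn hm hm' u1 u2 u3 aut_le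
    (by rw [T1.card.2.1]; norm_num)

end

end Suz

end CL.Rk3
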